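import Mathlib

/-! Stabilisers of partitions into blocks of equal size. -/
set_option autoImplicit false
set_option linter.unusedVariables false
set_option linter.unusedSectionVars false
open Equiv Equiv.Perm

namespace CfsgLib.Perm.Blocks

variable {Ω : Type*} [Fintype Ω] [DecidableEq Ω] {b : ℕ} (f : Ω → Fin b)

/-- the stabiliser of the partition into fibres -/
def blockGroup : Subgroup (Perm Ω) where
  carrier := {g | ∀ x y : Ω, f x = f y ↔ f (g x) = f (g y)}
  one_mem' := fun _ _ => Iff.rfl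
  mul_mem' := fun {g h} hg hh x y => (hh x y).trans (hg _ _)
  inv_mem' := fun {g} hg x y => by simpa using (hg (g⁻¹ x) (g⁻¹ y)).symm

theorem closure_eq : Subgroup.closure {g : Perm Ω | ∀ x y : Ω, f x = f y ↔ f (g x) = f (g y)} = blockGroup f :=
  Subgroup.closure_eq (blockGroup f)

variable {f}

theorem swap_mem {x y : Ω} (h : f x = f y) : swap x y ∈ blockGroup f := by
  have key : ∀ z, f (swap x y z) = f z := fun z => by
    rw [swap_apply_def]; split_ifs with h1 h2
    · rw [h1, h]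
    · rw [h2, h]
    · rfl
  intro u v; rw [key, key]

section

variable {a : ℕ} (hf : ∀ i : Fin b, Nat.card {x : Ω // f x = i} = a)
include hf

theorem card_fibre (i : Fin b) : (Finset.univ.filter fun x => f x = i).card = a := by
  rw [← hf i, Nat.card_eq_fintype_card, Fintype.card_subtype]

theorem card_domain : Fintype.card Ω = a * b := by
  rw [Fintype.card_congr (Equiv.sigmaFiberEquiv f).symm, Fintype.card_sigma]
  simp [← Nat.card_eq_fintype_card, hf, mul_comm a, Nat.card_fin]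

/-- another point in the same block -/
theorem exists_mate (ha : 2 ≤ a) (x : Ω) : ∃ y, y ≠ x ∧ f y = f x := by
  obtain ⟨y, hy, hne⟩ := Finset.exists_mem_ne (by rw [card_fibre hf (f x)]; omega : 1 < (Finset.univ.filter fun z => f z = f x).card) x
  exact ⟨y, hne, (Finset.mem_filter.1 hy).2⟩

theorem exists_third (ha : 3 ≤ a) (x y : Ω) (i : Fin b) : ∃ z, z ≠ x ∧ z ≠ y ∧ f z = i := by
  obtain ⟨z, hz, hz'⟩ := Finset.exists_mem_notMem_of_card_lt_card (s := {x, y}) (t := Finset.univ.filter fun z => f z = i)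
    (lt_of_le_of_lt Finset.card_le_two (by rw [card_fibre hf i]; omega))
  simp only [Finset.mem_insert, Finset.mem_singleton, not_or] at hz'
  exact ⟨z, hz'.1, hz'.2, (Finset.mem_filter.1 hz).2⟩

theorem exists_point (ha : 1 ≤ a) (i : Fin b) : ∃ x, f x = i := by
  obtain ⟨x, hx⟩ := Finset.card_pos.1 (by rw [card_fibre hf i]; omega : 0 < (Finset.univ.filter fun z => f z = i).card)
  exact ⟨x, (Finset.mem_filter.1 hx).2⟩

theorem exists_block_perm (σ : Perm (Fin b)) : ∃ g ∈ blockGroup f, ∀ x, f (g x) = σ (f x) := by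
  classical
  let e : ∀ i : Fin b, {x : Ω // f x = i} ≃ Fin a := fun i => Finite.equivFinOfCardEq (hf i)
  let s : Ω ≃ Fin b × Fin a := (Equiv.sigmaFiberEquiv f).symm.trans
    ((Equiv.sigmaCongrRight e).trans (Equiv.sigmaEquivProd _ _))
  have hs : ∀ x, (s x).1 = f x := fun x => rfl
  refine ⟨s.trans ((σ.prodCongr (Equiv.refl _)).trans s.symm), fun x y => ?_, fun x => ?_⟩ <;>
    simp only [← hs, Equiv.trans_apply, Equiv.apply_symm_apply, Equiv.prodCongr_apply, Prod.map_fst, σ.injective.eq_iff]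

theorem exists_pair_map {u₁ v₁ u₂ v₂ : Ω} (h1 : f u₁ ≠ f v₁) (h2 : f u₂ ≠ f v₂) :
    ∃ g ∈ blockGroup f, g u₁ = u₂ ∧ g v₁ = v₂ := by
  set s := swap (f u₁) (f u₂)
  set σ := swap (s (f v₁)) (f v₂) * s
  have e1 : σ (f u₁) = f u₂ := by
    show swap (s (f v₁)) (f v₂) (s (f u₁)) = f u₂
    rw [show s (f u₁) = f u₂ from swap_apply_left _ _, swap_apply_of_ne_of_ne (fun h => h1 ?_) h2]
    exact s.injective ((swap_apply_left _ _).trans h)
  have e2 : σ (f v₁) = f v₂ := swap_apply_left _ _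
  obtain ⟨g, hg, hgf⟩ := exists_block_perm hf σ
  have hu : f (g u₁) = f u₂ := (hgf _).trans e1
  have hv : f (g v₁) = f v₂ := (hgf _).trans e2
  refine ⟨swap (g v₁) v₂ * (swap (g u₁) u₂ * g), mul_mem (swap_mem hv) (mul_mem (swap_mem hu) hg), ?_, ?_⟩
  · rw [Perm.mul_apply, Perm.mul_apply, swap_apply_left,
      swap_apply_of_ne_of_ne (fun h => h2 (by rw [h, hv])) (fun h => h2 (by rw [h]))]
  · have e : swap (g u₁) u₂ (g v₁) = g v₁ :=
      swap_apply_of_ne_of_ne (fun h => h1 (by rw [g.injective h])) (fun h => h2 (by rw [← hv, h]))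
    rw [Perm.mul_apply, Perm.mul_apply, e, swap_apply_left]

theorem sym_isCoatom (ha : 2 ≤ a) (hb : 2 ≤ b) : IsCoatom (blockGroup f) := by
  obtain ⟨x, hx⟩ := exists_point hf (by omega) (⟨0, by omega⟩ : Fin b)
  obtain ⟨y, hy⟩ := exists_point hf (by omega) (⟨1, by omega⟩ : Fin b)
  have hxy : f x ≠ f y := by rw [hx, hy]; simp [Fin.ext_iff]
  refine ⟨fun h => ?_, fun K hK => ?_⟩
  · obtain ⟨x', hne, hx'⟩ := exists_mate hf ha x
    have := (h ▸ Subgroup.mem_top (swap x y) : swap x y ∈ blockGroup f) x' x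
    rw [swap_apply_left, swap_apply_of_ne_of_ne hne (fun e => hxy (by rw [← e, hx']))] at this
    exact hxy (hx'.symm.trans (this.1 hx'))
  obtain ⟨g, hgK, hgH⟩ := SetLike.exists_of_lt hK
  obtain ⟨u, v, huv, hguv⟩ : ∃ u v, f u = f v ∧ f (g u) ≠ f (g v) := by
    by_contra! hall
    refine hgH fun u v => ⟨hall u v, fun h => ?_⟩
    -- `g` maps each block into a block of the same size
    set S := Finset.univ.filter fun z => f z = f u
    have hS : S.image g = Finset.univ.filter fun z => f z = f (g u) := by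
      refine Finset.eq_of_subset_of_card_le (fun z hz => ?_) ?_
      · obtain ⟨w, hw, rfl⟩ := Finset.mem_image.1 hz
        exact Finset.mem_filter.2 ⟨Finset.mem_univ _, hall w u (Finset.mem_filter.1 hw).2⟩
      · rw [Finset.card_image_of_injective _ g.injective, card_fibre hf, card_fibre hf]
    obtain ⟨w, hw, he⟩ := Finset.mem_image.1 (show g v ∈ S.image g by rw [hS]; simp [h])
    rw [g.injective he] at hw
    exact (Finset.mem_filter.1 hw).2.symm
  have hswap : swap (g u) (g v) ∈ K := by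
    rw [show swap (g u) (g v) = g * swap u v * g⁻¹ by rw [mul_swap_eq_swap_mul, mul_inv_cancel_right]]
    exact mul_mem (mul_mem hgK (hK.le (swap_mem huv))) (inv_mem hgK)
  rw [eq_top_iff, ← Equiv.Perm.closure_isSwap, Subgroup.closure_le]
  rintro _ ⟨p, q, hpq, rfl⟩
  by_cases h : f p = f q
  · exact hK.le (swap_mem h)
  obtain ⟨k, hk, rfl, rfl⟩ := exists_pair_map hf hguv h
  rw [show swap (k (g u)) (k (g v)) = k * swap (g u) (g v) * k⁻¹ by rw [mul_swap_eq_swap_mul, mul_inv_cancel_right]]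
  exact mul_mem (mul_mem (hK.le hk) hswap) (inv_mem (hK.le hk))

end

/-- a cyclic permutation of three points -/
def cyc (u v w : Ω) : Perm Ω := swap u v * swap v w

theorem conj_swap (g : Perm Ω) (u v : Ω) : g * swap u v * g⁻¹ = swap (g u) (g v) := by
  rw [mul_swap_eq_swap_mul, mul_inv_cancel_right]

theorem cyc_conj (g : Perm Ω) (u v w : Ω) : g * cyc u v w * g⁻¹ = cyc (g u) (g v) (g w) := by
  rw [cyc, cyc, ← conj_swap g u v, ← conj_swap g v w]; group

theorem swap_comm_of_ne {p q r t : Ω} (h1 : p ≠ r) (h2 : p ≠ t) (h3 : q ≠ r) (h4 : q ≠ t) :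
    swap p q * swap r t = swap r t * swap p q := by
  rw [← mul_inv_eq_iff_eq_mul, conj_swap, swap_apply_of_ne_of_ne (Ne.symm h1) (Ne.symm h3),
    swap_apply_of_ne_of_ne (Ne.symm h2) (Ne.symm h4)]

theorem cyc_rot {u v w : Ω} (h1 : u ≠ v) (h2 : v ≠ w) (h3 : u ≠ w) : cyc u v w = cyc v w u := by
  ext z; simp only [cyc, Perm.mul_apply, swap_apply_def]; split_ifs <;> grind

theorem cyc_rev {u v w : Ω} (h1 : u ≠ v) (h2 : v ≠ w) (h3 : u ≠ w) : (cyc u v w)⁻¹ = cyc w v u := by
  rw [cyc, mul_inv_rev, swap_inv, swap_inv, cyc, swap_comm v w, swap_comm u v]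

theorem eq_cyc {σ : Perm Ω} (h : σ.IsThreeCycle) : ∃ u v w : Ω, u ≠ v ∧ v ≠ w ∧ u ≠ w ∧ σ = cyc u v w := by
  obtain ⟨u, hu⟩ : σ.support.Nonempty := Finset.card_pos.1 (by rw [h.card_support]; norm_num)
  rw [mem_support] at hu
  have h3 : σ (σ (σ u)) = u := by
    have := pow_orderOf_eq_one σ
    rw [h.orderOf] at this
    simpa [pow_succ] using DFunLike.congr_fun this u
  have h2 : σ (σ u) ≠ u := fun e => hu (by rw [e] at h3; exact h3)
  refine ⟨u, σ u, σ (σ u), Ne.symm hu, fun e => hu (σ.injective e).symm, Ne.symm h2, ?_⟩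
  have hs : σ.support = {u, σ u, σ (σ u)} := by
    symm
    refine Finset.eq_of_subset_of_card_le ?_ ?_
    · intro z hz
      simp only [Finset.mem_insert, Finset.mem_singleton] at hz
      rw [mem_support]
      rcases hz with rfl | rfl | rfl
      · exact hu
      · exact fun e => hu (σ.injective e)
      · exact fun e => hu (σ.injective (σ.injective e))
    · rw [h.card_support]
      refine le_of_eq (Eq.symm (Finset.card_eq_three.2 ⟨u, σ u, σ (σ u), Ne.symm hu, Ne.symm h2,
        fun e => hu (σ.injective e).symm, rfl⟩))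
  ext z
  simp only [cyc, Perm.mul_apply, swap_apply_def]
  by_cases hz : z ∈ σ.support
  · rw [hs, Finset.mem_insert, Finset.mem_insert, Finset.mem_singleton] at hz
    split_ifs <;> grind
  · rw [notMem_support.1 hz]
    rw [hs, Finset.mem_insert, Finset.mem_insert, Finset.mem_singleton] at hz
    split_ifs <;> grind

theorem cyc_even {u v w : Ω} (h1 : u ≠ v) (h2 : v ≠ w) : sign (cyc u v w) = 1 := by
  rw [cyc, map_mul, sign_swap h1, sign_swap h2]; rfl

section

variable {a : ℕ} (hf : ∀ i : Fin b, Nat.card {x : Ω // f x = i} = a)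
include hf

theorem exists_triple_map (ha : 2 ≤ a) (hab : 3 ≤ a ∨ 3 ≤ b) {u₁ u₁' v₁ u₂ u₂' v₂ : Ω}
    (e1 : f u₁ = f u₁') (n1 : u₁ ≠ u₁') (h1 : f u₁ ≠ f v₁)
    (e2 : f u₂ = f u₂') (n2 : u₂ ≠ u₂') (h2 : f u₂ ≠ f v₂) :
    ∃ g ∈ blockGroup f, sign g = 1 ∧ g u₁ = u₂ ∧ g u₁' = u₂' ∧ g v₁ = v₂ := by
  obtain ⟨g, hg, gu, gv⟩ := exists_pair_map hf h1 h2
  have hgu' : f (g u₁') = f u₂' := by rw [← (hg u₁ u₁').1 e1, gu, e2]
  set k := swap (g u₁') u₂' * g
  have hk : k ∈ blockGroup f := mul_mem (swap_mem hgu') hg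
  have ku' : k u₁' = u₂' := by rw [Perm.mul_apply, swap_apply_left]
  have ku : k u₁ = u₂ := by
    rw [Perm.mul_apply, gu, swap_apply_of_ne_of_ne (fun h => n1 (g.injective (gu.trans h))) n2]
  have kv : k v₁ = v₂ := by
    rw [Perm.mul_apply, gv, swap_apply_of_ne_of_ne (fun h => h2 (by rw [h, hgu', e2]))
      (fun h => h2 (by rw [h, e2]))]
  rcases Int.units_eq_one_or (sign k) with hs | hs
  · exact ⟨k, hk, hs, ku, ku', kv⟩
  -- two spare points in one block
  obtain ⟨p, q, hpq, hf', hp1, hp2, hp3, hq1, hq2, hq3⟩ : ∃ p q : Ω, p ≠ q ∧ f p = f q ∧ p ≠ u₂ ∧ p ≠ u₂' ∧ p ≠ v₂ ∧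
      q ≠ u₂ ∧ q ≠ u₂' ∧ q ≠ v₂ := by
    rcases hab with ha3 | hb3
    · obtain ⟨p, hp, -, hpf⟩ := exists_third hf ha3 v₂ v₂ (f v₂)
      obtain ⟨q, hq, hqp, hqf⟩ := exists_third hf ha3 v₂ p (f v₂)
      exact ⟨p, q, Ne.symm hqp, hpf.trans hqf.symm, fun e => h2 (by rw [← e, hpf]), fun e => h2 (by rw [e2, ← e, hpf]),
        hp, fun e => h2 (by rw [← e, hqf]), fun e => h2 (by rw [e2, ← e, hqf]), hq⟩
    · obtain ⟨m, -, hm⟩ := Finset.exists_mem_notMem_of_card_lt_card (s := {f u₂, f v₂}) (t := Finset.univ)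
        (lt_of_le_of_lt Finset.card_le_two (by simp; omega))
      simp only [Finset.mem_insert, Finset.mem_singleton, not_or] at hm
      obtain ⟨p, hp⟩ := exists_point hf (by omega) m
      obtain ⟨q, hqp, hq⟩ := exists_mate hf ha p
      exact ⟨p, q, Ne.symm hqp, hq.symm, fun e => hm.1 (by rw [← hp, e]), fun e => hm.1 (by rw [← hp, e, e2]),
        fun e => hm.2 (by rw [← hp, e]), fun e => hm.1 (by rw [← hp, ← hq, e]), fun e => hm.1 (by rw [← hp, ← hq, e, e2]),
        fun e => hm.2 (by rw [← hp, ← hq, e])⟩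
  refine ⟨swap p q * k, mul_mem (swap_mem hf') hk, by rw [map_mul, hs, sign_swap hpq]; rfl, ?_, ?_, ?_⟩
  · rw [Perm.mul_apply, ku, swap_apply_of_ne_of_ne (Ne.symm hp1) (Ne.symm hq1)]
  · rw [Perm.mul_apply, ku', swap_apply_of_ne_of_ne (Ne.symm hp2) (Ne.symm hq2)]
  · rw [Perm.mul_apply, kv, swap_apply_of_ne_of_ne (Ne.symm hp3) (Ne.symm hq3)]

theorem le_of_cyc (ha : 2 ≤ a) (hb : 2 ≤ b) (hab : 3 ≤ a ∨ 3 ≤ b) {K : Subgroup (Perm Ω)}
    (hK : blockGroup f ⊓ alternatingGroup Ω ≤ K) {u₀ u₀' v₀ : Ω} (e0 : f u₀ = f u₀') (n0 : u₀ ≠ u₀')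
    (h0 : f u₀ ≠ f v₀) (hc : cyc u₀ u₀' v₀ ∈ K) : alternatingGroup Ω ≤ K := by
  have two : ∀ u u' v : Ω, f u = f u' → u ≠ u' → f u ≠ f v → cyc u u' v ∈ K := by
    intro u u' v e n h
    obtain ⟨g, hg, hs, rfl, rfl, rfl⟩ := exists_triple_map hf ha hab e0 n0 h0 e n h
    rw [← cyc_conj]
    have hgK := hK (Subgroup.mem_inf.2 ⟨hg, hs⟩)
    exact mul_mem (mul_mem hgK hc) (inv_mem hgK)
  have two' : ∀ u v w : Ω, u ≠ v → v ≠ w → u ≠ w → f u = f v → f v ≠ f w →
      cyc u v w ∈ K ∧ cyc v w u ∈ K ∧ cyc w u v ∈ K := by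
    intro u v w h1 h2 h3 e ne
    have h := two u v w e h1 (e ▸ ne)
    refine ⟨h, cyc_rot h1 h2 h3 ▸ h, ?_⟩
    rw [cyc_rot (Ne.symm h3) h1 (Ne.symm h2)]; exact h
  rw [← closure_three_cycles_eq_alternating, Subgroup.closure_le]
  intro σ hσ
  obtain ⟨u, v, w, h1, h2, h3, rfl⟩ := eq_cyc hσ
  rw [SetLike.mem_coe]
  by_cases e1 : f u = f v
  · by_cases e2 : f v = f w
    · obtain ⟨i, hi⟩ : ∃ i : Fin b, i ≠ f u := by
        obtain ⟨i, -, hi⟩ := Finset.exists_mem_ne (s := (Finset.univ : Finset (Fin b))) (by simp; omega) (f u)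
        exact ⟨i, hi⟩
      obtain ⟨p, hp⟩ := exists_point hf (by omega) i
      obtain ⟨q, hqp, hq⟩ := exists_mate hf ha p
      have hne : ∀ z, f z = f u → z ≠ p ∧ z ≠ q := fun z hz => ⟨fun e => hi (by rw [← hp, ← e, hz]),
        fun e => hi (by rw [← hp, ← hq, ← e, hz])⟩
      have hu' := hne u rfl
      have hv' := hne v e1.symm
      have hw' := hne w (e1.trans e2).symm
      have k : cyc p w q ∈ K := by
        rw [cyc_rot hw'.1.symm hw'.2 (Ne.symm hqp), cyc_rot hw'.2 hqp hw'.1]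
        exact two q p w hq hqp (fun e => hi (by rw [← hp, ← hq, e, e1.trans e2]))
      have hc' := mul_mem (mul_mem k (two u v p e1 h1 (fun e => hi (by rw [← hp, ← e])))) (inv_mem k)
      rw [cyc_conj] at hc'
      have a1 : cyc p w q u = u := by
        simp [cyc, Perm.mul_apply, swap_apply_of_ne_of_ne, hu'.1, hu'.2, h3]
      have a2 : cyc p w q v = v := by
        simp [cyc, Perm.mul_apply, swap_apply_of_ne_of_ne, hv'.1, hv'.2, h2]
      have a3 : cyc p w q p = w := by
        simp [cyc, Perm.mul_apply, swap_apply_of_ne_of_ne, hw'.1.symm, Ne.symm hqp]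
      rwa [a1, a2, a3] at hc'
    · exact (two' u v w h1 h2 h3 e1 e2).1
  by_cases e2 : f v = f w
  · exact (two' v w u h2 (Ne.symm h3) (Ne.symm h1) e2 (fun e => e1 (e2.trans e).symm)).2.2
  by_cases e3 : f w = f u
  · exact (two' w u v (Ne.symm h3) h1 (Ne.symm h2) e3 e1).2.1
  obtain ⟨u', hu'u, hu'⟩ := exists_mate hf ha u
  obtain ⟨v', hv'v, hv'⟩ := exists_mate hf ha v
  have n1 : u' ≠ v := fun e => e1 (by rw [← hu', e])
  have n2 : u' ≠ v' := fun e => e1 (by rw [← hu', e, hv'])
  have n3 : u ≠ v' := fun e => e1 (by rw [e, hv'])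
  have n4 : w ≠ v' := fun e => e2 (by rw [e, hv'])
  have n5 : w ≠ u' := fun e => e3 (by rw [e, hu'])
  have k : cyc u' v v' ∈ K := (two' v v' u' (Ne.symm hv'v) n2.symm n1.symm hv'.symm
    (fun e => e1 (by rw [← hu', ← e, hv']))).2.2
  have hc' := mul_mem (mul_mem k (two u u' w hu'.symm (Ne.symm hu'u) (fun e => e3 e.symm))) (inv_mem k)
  rw [cyc_conj] at hc'
  have a1 : cyc u' v v' u = u := by simp [cyc, Perm.mul_apply, swap_apply_of_ne_of_ne, h1, n3, Ne.symm hu'u]
  have a2 : cyc u' v v' u' = v := by simp [cyc, Perm.mul_apply, swap_apply_of_ne_of_ne, n1, n2]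
  have a3 : cyc u' v v' w = w := by simp [cyc, Perm.mul_apply, swap_apply_of_ne_of_ne, Ne.symm h2, n4, n5]
  rwa [a1, a2, a3] at hc'

theorem exists_split {g : Perm Ω} (hg : g ∉ blockGroup f) : ∃ u v, f u = f v ∧ f (g u) ≠ f (g v) := by
  by_contra! hall
  refine hg fun u v => ⟨hall u v, fun h => ?_⟩
  have hS : (Finset.univ.filter fun z => f z = f u).image g = Finset.univ.filter fun z => f z = f (g u) := by
    refine Finset.eq_of_subset_of_card_le (fun z hz => ?_) ?_
    · obtain ⟨w, hw, rfl⟩ := Finset.mem_image.1 hz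
      exact Finset.mem_filter.2 ⟨Finset.mem_univ _, hall w u (Finset.mem_filter.1 hw).2⟩
    · rw [Finset.card_image_of_injective _ g.injective, card_fibre hf, card_fibre hf]
  obtain ⟨w, hw, he⟩ := Finset.mem_image.1
    (show g v ∈ (Finset.univ.filter fun z => f z = f u).image g by rw [hS]; simp [h])
  rw [g.injective he] at hw
  exact (Finset.mem_filter.1 hw).2.symm

theorem alt_le (ha : 2 ≤ a) (hb : 2 ≤ b) (hbig : 3 ≤ a ∨ 5 ≤ b) {K : Subgroup (Perm Ω)}
    (hK : blockGroup f ⊓ alternatingGroup Ω ≤ K) {g : Perm Ω} (hgK : g ∈ K) (hgH : g ∉ blockGroup f) :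
    alternatingGroup Ω ≤ K := by
  obtain ⟨x, x', hxx, hne⟩ := exists_split hf hgH
  have nx : x ≠ x' := fun e => hne (by rw [e])
  have hab : 3 ≤ a ∨ 3 ≤ b := hbig.imp_right (by omega)
  have evenSwaps : ∀ {p p' r r' : Ω}, f p = f p' → p ≠ p' → f r = f r' → r ≠ r' → swap p p' * swap r r' ∈ K :=
    fun e1 n1 e2 n2 => hK (Subgroup.mem_inf.2 ⟨mul_mem (swap_mem e1) (swap_mem e2),
      Equiv.Perm.mem_alternatingGroup.2 (by rw [map_mul, sign_swap n1, sign_swap n2]; rfl)⟩)
  rcases Nat.lt_or_ge a 3 with ha2 | ha3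
  · have hb5 : 5 ≤ b := hbig.resolve_left (by omega)
    have hmate : ∀ {p q r : Ω}, f p = f q → f p = f r → p ≠ q → p ≠ r → q = r := by
      intro p q r e1 e2 n1 n2
      by_contra n3
      have : ({p, q, r} : Finset Ω) ⊆ Finset.univ.filter fun z => f z = f p := by
        intro z hz; simp only [Finset.mem_insert, Finset.mem_singleton] at hz
        rcases hz with rfl | rfl | rfl <;> simp_all
      have := Finset.card_le_card this
      rw [card_fibre hf, Finset.card_eq_three.2 ⟨p, q, r, n1, n2, n3, rfl⟩] at this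
      omega
    obtain ⟨p', hp'p, hp'⟩ := exists_mate hf ha (g x)
    obtain ⟨q', hq'q, hq'⟩ := exists_mate hf ha (g x')
    obtain ⟨j, -, hj⟩ := Finset.exists_mem_notMem_of_card_lt_card (s := ({f x, f (g⁻¹ p'), f (g⁻¹ q')} : Finset (Fin b)))
      (t := Finset.univ) (lt_of_le_of_lt Finset.card_le_three (by simp; omega))
    simp only [Finset.mem_insert, Finset.mem_singleton, not_or] at hj
    obtain ⟨y, hy⟩ := exists_point hf (by omega) j
    obtain ⟨y', hy'y, hy'⟩ := exists_mate hf ha y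
    have key : ∀ z, f z = j → f (g z) ≠ f (g x) ∧ f (g z) ≠ f (g x') := by
      intro z hz
      refine ⟨fun e => ?_, fun e => ?_⟩
      · rcases eq_or_ne (g x) (g z) with e' | e'
        · exact hj.1 (by rw [← hz, ← g.injective e'])
        · have := hmate hp'.symm e.symm (Ne.symm hp'p) e'
          exact hj.2.1 (by rw [← hz, this]; simp)
      · rcases eq_or_ne (g x') (g z) with e' | e'
        · exact hj.1 (by rw [← hz, ← g.injective e', hxx])
        · have := hmate hq'.symm e.symm (Ne.symm hq'q) e'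
          exact hj.2.2 (by rw [← hz, this]; simp)
    have hr := key y hy
    have ht := key y' (hy'.trans hy)
    set p := g x
    set q := g x'
    set r := g y
    set t := g y'
    have hs : swap p q * swap r t ∈ K := by
      have := mul_mem (mul_mem hgK (evenSwaps hxx nx hy'.symm (Ne.symm hy'y))) (inv_mem hgK)
      rwa [show g * (swap x x' * swap y y') * g⁻¹ = (g * swap x x' * g⁻¹) * (g * swap y y' * g⁻¹) by group,
        conj_swap, conj_swap] at this
    have npq : p ≠ q := fun e => hne (by rw [e])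
    have nrt : r ≠ t := fun e => hy'y (g.injective e).symm
    have nqp' : q ≠ p' := fun e => hne (by rw [e, hp'])
    have npr : p ≠ r := fun e => hr.1 (by rw [e])
    have npt : p ≠ t := fun e => ht.1 (by rw [e])
    have nqr : q ≠ r := fun e => hr.2 (by rw [e])
    have nqt : q ≠ t := fun e => ht.2 (by rw [e])
    have np'r : p' ≠ r := fun e => hr.1 (by rw [← e, hp'])
    have np't : p' ≠ t := fun e => ht.1 (by rw [← e, hp'])
    by_cases hrt : f r = f t
    · refine le_of_cyc hf ha hb hab hK (u₀ := p') (u₀' := p) (v₀ := q) hp' hp'p (fun e => hne (hp'.symm.trans e)) ?_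
      have := inv_mem (mul_mem hs (evenSwaps hp' hp'p hrt nrt))
      rwa [mul_assoc, ← mul_assoc (swap r t), swap_comm_of_ne (Ne.symm np'r) (Ne.symm npr) (Ne.symm np't) (Ne.symm npt),
        mul_assoc (swap p' p), swap_mul_self, mul_one, mul_inv_rev, swap_inv, swap_inv] at this
    · obtain ⟨m, -, hm⟩ := Finset.exists_mem_notMem_of_card_lt_card (s := ({f p, f q, f r, f t} : Finset (Fin b)))
        (t := Finset.univ) (lt_of_le_of_lt Finset.card_le_four (by simp; omega))
      simp only [Finset.mem_insert, Finset.mem_singleton, not_or] at hm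
      obtain ⟨e, he⟩ := exists_point hf (by omega) m
      obtain ⟨e', he'e, he'⟩ := exists_mate hf ha e
      have hh := evenSwaps hp'.symm (Ne.symm hp'p) he'.symm (Ne.symm he'e)
      have hc1 : ∀ z, f z = m → z ≠ p ∧ z ≠ q ∧ z ≠ r ∧ z ≠ t ∧ z ≠ p' := fun z hz =>
        ⟨fun e => hm.1 (by rw [← hz, e]), fun e => hm.2.1 (by rw [← hz, e]), fun e => hm.2.2.1 (by rw [← hz, e]),
          fun e => hm.2.2.2 (by rw [← hz, e]), fun e => hm.1 (by rw [← hz, e, hp'])⟩
      obtain ⟨a1, a2, a3, a4, a5⟩ := hc1 e he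
      obtain ⟨b1, b2, b3, b4, b5⟩ := hc1 e' (he'.trans he)
      set h := swap p p' * swap e e' with hdef
      have i1 : h p = p' := by rw [hdef, Perm.mul_apply, swap_apply_of_ne_of_ne (Ne.symm a1) (Ne.symm b1), swap_apply_left]
      have i2 : h q = q := by
        rw [hdef, Perm.mul_apply, swap_apply_of_ne_of_ne (Ne.symm a2) (Ne.symm b2), swap_apply_of_ne_of_ne npq.symm nqp']
      have i3 : h r = r := by
        rw [hdef, Perm.mul_apply, swap_apply_of_ne_of_ne (Ne.symm a3) (Ne.symm b3),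
          swap_apply_of_ne_of_ne npr.symm np'r.symm]
      have i4 : h t = t := by
        rw [hdef, Perm.mul_apply, swap_apply_of_ne_of_ne (Ne.symm a4) (Ne.symm b4),
          swap_apply_of_ne_of_ne npt.symm np't.symm]
      have := inv_mem (mul_mem hs (mul_mem (mul_mem hh hs) (inv_mem hh)))
      rw [show h * (swap p q * swap r t) * h⁻¹ = (h * swap p q * h⁻¹) * (h * swap r t * h⁻¹) by group, conj_swap,
        conj_swap, i1, i2, i3, i4, mul_assoc, ← mul_assoc (swap r t),
        swap_comm_of_ne (Ne.symm np'r) (Ne.symm nqr) (Ne.symm np't) (Ne.symm nqt),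
        mul_assoc (swap p' q), swap_mul_self, mul_one, mul_inv_rev, swap_inv, swap_inv, swap_comm p q] at this
      refine le_of_cyc hf ha hb hab hK (u₀ := p) (u₀' := p') (v₀ := q) hp'.symm (Ne.symm hp'p) hne ?_
      rw [cyc_rot (Ne.symm hp'p) nqp'.symm npq]
      exact this
  · obtain ⟨z, hzx, hzx', hz⟩ := exists_third hf ha3 x x' (f x)
    have hc : cyc (g x) (g x') (g z) ∈ K := by
      rw [← cyc_conj]
      exact mul_mem (mul_mem hgK (hK (Subgroup.mem_inf.2
        ⟨mul_mem (swap_mem hxx) (swap_mem (hxx.symm.trans hz.symm)), cyc_even nx (Ne.symm hzx')⟩))) (inv_mem hgK)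
    set p := g x
    set q := g x'
    set r := g z
    have npq : p ≠ q := fun e => hne (by rw [e])
    have npr : p ≠ r := fun e => hzx (g.injective e).symm
    have nqr : q ≠ r := fun e => hzx' (g.injective e).symm
    by_cases epr : f p = f r
    · refine le_of_cyc hf ha hb hab hK (u₀ := r) (u₀' := p) (v₀ := q) epr.symm npr.symm (fun e => hne (epr.trans e)) ?_
      rw [cyc_rot npr.symm npq nqr.symm]; exact hc
    by_cases eqr : f q = f r
    · exact le_of_cyc hf ha hb hab hK (u₀ := q) (u₀' := r) (v₀ := p) eqr nqr (Ne.symm hne) (cyc_rot npq nqr npr ▸ hc)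
    obtain ⟨p', hp'p, hp'⟩ := exists_mate hf ha p
    obtain ⟨k, -, hkK, hkp, hkq, hkr⟩ : ∃ k, sign k = 1 ∧ k ∈ K ∧ k p = p' ∧ k q = q ∧ k r = r := by
      obtain ⟨s₁, hs1, -, hs1f⟩ := exists_third hf ha3 q q (f q)
      obtain ⟨s₂, hs2, hs12, hs2f⟩ := exists_third hf ha3 q s₁ (f q)
      refine ⟨swap p p' * swap s₁ s₂, by rw [map_mul, sign_swap (Ne.symm hp'p), sign_swap (Ne.symm hs12)]; rfl,
        evenSwaps hp'.symm (Ne.symm hp'p) (hs1f.trans hs2f.symm) (Ne.symm hs12), ?_, ?_, ?_⟩ <;>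
      · simp only [Perm.mul_apply, swap_apply_def]; split_ifs <;> grind
    have hc2 := mul_mem hc (inv_mem (mul_mem (mul_mem hkK hc) (inv_mem hkK)))
    rw [cyc_conj, hkp, hkq, hkr] at hc2
    refine le_of_cyc hf ha hb hab hK (u₀ := p') (u₀' := p) (v₀ := q) hp' hp'p (fun e => hne (hp'.symm.trans e)) ?_
    have n1 : p' ≠ q := fun e => hne (by rw [← hp', e])
    have n2 : p' ≠ r := fun e => epr (by rw [← hp', e])
    have hsplit : cyc p q r * (cyc p' q r)⁻¹ = swap p q * swap p' q := by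
      rw [cyc, cyc, mul_inv_rev, swap_inv, swap_inv, mul_assoc, ← mul_assoc (swap q r), swap_mul_self, one_mul]
    have hcj : swap p q * swap p' q * swap p q = swap p' p := by
      have := conj_swap (swap p q) p' q
      rwa [swap_inv, swap_apply_of_ne_of_ne hp'p n1, swap_apply_right] at this
    rw [hsplit] at hc2
    rw [cyc, ← hcj, mul_assoc _ (swap p q), swap_mul_self, mul_one]
    exact hc2

theorem card_blockGroup (ha : 1 ≤ a) : b.factorial * a.factorial ^ b = Nat.card (blockGroup f) := by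
  classical
  let e : ∀ i : Fin b, {x : Ω // f x = i} ≃ Fin a := fun i => Finite.equivFinOfCardEq (hf i)
  let s : Ω ≃ Fin b × Fin a := (Equiv.sigmaFiberEquiv f).symm.trans
    ((Equiv.sigmaCongrRight e).trans (Equiv.sigmaEquivProd _ _))
  have hs : ∀ x, (s x).1 = f x := fun x => rfl
  let F : Perm (Fin b) × (Fin b → Perm (Fin a)) → blockGroup f := fun q =>
    ⟨s.trans ((Equiv.prodShear q.1 q.2).trans s.symm), fun x y => by
      simp only [← hs, Equiv.trans_apply, Equiv.apply_symm_apply, Equiv.prodShear_apply, q.1.injective.eq_iff]⟩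
  have hF : Function.Injective F := by
    rintro ⟨σ, ψ⟩ ⟨σ', ψ'⟩ h
    have key : ∀ i c, (σ i, ψ i c) = (σ' i, ψ' i c) := fun i c => by
      have := congrArg (fun g : blockGroup f => s ((g : Perm Ω) (s.symm (i, c)))) h
      simpa [F] using this
    exact Prod.ext (Equiv.ext fun i => congrArg Prod.fst (key i ⟨0, ha⟩))
      (funext fun i => Equiv.ext fun c => congrArg Prod.snd (key i c))
  have hsurj : Function.Surjective F := by
    rintro ⟨g, hg⟩
    let pt : Fin b → Ω := fun i => s.symm (i, ⟨0, ha⟩)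
    have hpt : ∀ i, f (pt i) = i := fun i => by rw [← hs]; simp [pt]
    have hσ : Function.Injective fun i => f (g (pt i)) := fun i j h => by
      have := (hg (pt i) (pt j)).2 h
      rwa [hpt, hpt] at this
    have hblock : ∀ x, f (g x) = f (g (pt (f x))) := fun x => (hg x (pt (f x))).1 (hpt _).symm
    have hψ : ∀ i, Function.Injective fun c => (s (g (s.symm (i, c)))).2 := fun i c d h => by
      have h1 : f (g (s.symm (i, c))) = f (g (s.symm (i, d))) := (hg _ _).1 (by rw [← hs, ← hs]; simp)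
      rw [← hs, ← hs] at h1
      simpa using s.symm.injective (g.injective (s.injective (Prod.ext h1 h)))
    refine ⟨(Equiv.ofBijective _ (Finite.injective_iff_bijective.1 hσ),
      fun i => Equiv.ofBijective _ (Finite.injective_iff_bijective.1 (hψ i))), Subtype.ext (Equiv.ext fun x => ?_)⟩
    apply s.injective
    simp only [F, Equiv.trans_apply, Equiv.apply_symm_apply, Equiv.prodShear_apply, Equiv.ofBijective_apply,
      Prod.mk.eta, Equiv.symm_apply_apply]
    exact Prod.ext (by rw [hs, hs, hblock x]) rfl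
  have := Nat.card_eq_of_bijective F ⟨hF, hsurj⟩
  rw [Nat.card_prod, Nat.card_fun, Nat.card_perm, Nat.card_perm, Nat.card_fin, Nat.card_fin] at this
  exact this

theorem card_le_alt (ha : 1 ≤ a) : b.factorial * a.factorial ^ b ≤ 2 * Nat.card (blockGroup f ⊓ alternatingGroup Ω : Subgroup (Perm Ω)) := by
  refine (card_blockGroup hf ha).le.trans ?_
  have h := (blockGroup f).relIndex_inf_mul_relIndex (alternatingGroup Ω) ⊤
  have h1 : (alternatingGroup Ω).relIndex (blockGroup f) ≤ 2 := by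
    rcases subsingleton_or_nontrivial Ω with hs | hs
    · exact le_trans (le_of_eq (Subgroup.relIndex_eq_one.2 fun g _ => by rw [Subsingleton.elim g 1]; exact one_mem _))
        (by norm_num)
    · exact Nat.le_of_dvd two_pos (alternatingGroup.index_eq_two (α := Ω) ▸ Subgroup.relIndex_dvd_index_of_normal _ _)
  have h2 := Subgroup.card_mul_index ((alternatingGroup Ω).subgroupOf (blockGroup f))
  rw [← h2, ← Subgroup.relIndex, mul_comm]
  refine Nat.mul_le_mul h1 (le_of_eq ?_)
  rw [← Nat.card_congr (Subgroup.subgroupOfEquivOfLe (inf_le_left : blockGroup f ⊓ alternatingGroup Ω ≤ blockGroup f)).toEquiv,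
    Subgroup.inf_subgroupOf_left]

theorem alt_isCoatom (h8 : Fintype.card Ω ≠ 8) (ha : 2 ≤ a) (hb : 2 ≤ b) :
    IsCoatom ((blockGroup f ⊓ alternatingGroup Ω).subgroupOf (alternatingGroup Ω)) := by
  obtain ⟨x, hx⟩ := exists_point hf (by omega) (⟨0, by omega⟩ : Fin b)
  obtain ⟨x', hne, hx'⟩ := exists_mate hf ha x
  obtain ⟨y, hy⟩ := exists_point hf (by omega) (⟨1, by omega⟩ : Fin b)
  have hxy : f x ≠ f y := by rw [hx, hy]; simp [Fin.ext_iff]
  have hx'y : x' ≠ y := fun e => hxy (by rw [← hx', e])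
  refine ⟨fun h => ?_, fun K hK => ?_⟩
  · have hmem : cyc x x' y ∈ alternatingGroup Ω := Equiv.Perm.mem_alternatingGroup.2 (cyc_even hne.symm hx'y)
    have h' : (⟨_, hmem⟩ : alternatingGroup Ω) ∈ (blockGroup f ⊓ alternatingGroup Ω).subgroupOf (alternatingGroup Ω) :=
      h ▸ Subgroup.mem_top _
    have := ((Subgroup.mem_inf.1 (Subgroup.mem_subgroupOf.1 h')).1 x x').1 hx'.symm
    simp only [cyc, Perm.mul_apply, swap_apply_of_ne_of_ne hne.symm (fun e => hxy (by rw [e])), swap_apply_left,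
      swap_apply_of_ne_of_ne (fun e => hxy (by rw [e])) hx'y.symm] at this
    exact hxy (hx'.symm.trans this)
  have hle : blockGroup f ⊓ (alternatingGroup Ω) ≤ K.map (alternatingGroup Ω).subtype := fun g hg => by
    have hgA : g ∈ (alternatingGroup Ω) := (Subgroup.mem_inf.1 hg).2
    exact Subgroup.mem_map.2 ⟨⟨g, hgA⟩, hK.le (Subgroup.mem_subgroupOf.2 hg), rfl⟩
  obtain ⟨⟨g, hgA⟩, hgK, hgH⟩ := SetLike.exists_of_lt hK
  have hgH' : g ∉ blockGroup f := fun h => hgH (Subgroup.mem_subgroupOf.2 ⟨h, hgA⟩)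
  by_cases hbig : 3 ≤ a ∨ 5 ≤ b
  · rw [eq_top_iff]
    rintro ⟨k, hk⟩ -
    obtain ⟨k', hk', e⟩ := alt_le hf ha hb hbig hle (g := g) ⟨⟨g, hgA⟩, hgK, rfl⟩ hgH' hk
    exact (Subtype.ext e : k' = ⟨k, hk⟩) ▸ hk'
  push Not at hbig
  obtain ⟨ha3, hb5⟩ := hbig
  obtain rfl : a = 2 := by omega
  have hn : Fintype.card Ω = 2 * b := card_domain hf
  have : Nontrivial Ω := ⟨⟨x, x', hne.symm⟩⟩
  have hA := two_mul_nat_card_alternatingGroup (α := Ω)
  rw [Nat.card_perm, Nat.card_eq_fintype_card (α := Ω), hn] at hA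
  have hH := card_le_alt hf (by omega)
  have hlow : Nat.card (blockGroup f ⊓ (alternatingGroup Ω) : Subgroup (Perm Ω)) ∣ Nat.card K ∧
      Nat.card (blockGroup f ⊓ (alternatingGroup Ω) : Subgroup (Perm Ω)) < Nat.card K := by
    rw [← Nat.card_congr (Subgroup.subgroupOfEquivOfLe (inf_le_right : blockGroup f ⊓ (alternatingGroup Ω) ≤ (alternatingGroup Ω))).toEquiv]
    refine ⟨Subgroup.card_dvd_of_le hK.le, lt_of_not_ge fun h => ?_⟩
    exact hK.ne (Subgroup.eq_of_le_of_card_ge hK.le h)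
  have hidx := Subgroup.index_mul_card K
  have hdbl : 2 * Nat.card (blockGroup f ⊓ (alternatingGroup Ω) : Subgroup (Perm Ω)) ≤ Nat.card K := by
    obtain ⟨k, hk⟩ := hlow.1
    rcases k with _ | _ | k
    · rw [mul_zero] at hk; omega
    · rw [zero_add, mul_one] at hk; omega
    · rw [hk, mul_comm 2]; exact Nat.mul_le_mul_left _ (by omega)
  interval_cases b
  · simp only [Nat.factorial, Nat.reduceMul, Nat.reduceAdd, Nat.reducePow, Nat.succ_eq_add_one, one_mul] at hA hH
    have hA12 : Nat.card (alternatingGroup Ω) = 12 := by omega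
    rw [hA12] at hidx
    by_contra hne'
    have h1 : K.index ≠ 1 := fun h => hne' (Subgroup.index_eq_one.1 h)
    have h0 : K.index ≠ 0 := Subgroup.index_ne_zero_of_finite
    have := Nat.mul_le_mul_right (Nat.card K) (show 2 ≤ K.index by omega)
    omega
  · simp only [Nat.factorial, Nat.reduceMul, Nat.reduceAdd, Nat.reducePow, Nat.succ_eq_add_one, one_mul] at hA hH
    have hA360 : Nat.card (alternatingGroup Ω) = 360 := by omega
    rw [hA360] at hidx
    by_contra hne'
    have h1 : K.index ≠ 1 := fun h => hne' (Subgroup.index_eq_one.1 h)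
    have h0 : K.index ≠ 0 := Subgroup.index_ne_zero_of_finite
    have h6 : 6 ≤ K.index := by
      by_contra! hlt
      have : IsSimpleGroup (alternatingGroup Ω) :=
        alternatingGroup.isSimpleGroup (by rw [Nat.card_eq_fintype_card, hn]; norm_num)
      have hinj : Function.Injective (MulAction.toPermHom (alternatingGroup Ω) ((alternatingGroup Ω) ⧸ K)) := by
        rw [← MonoidHom.ker_eq_bot_iff, ← Subgroup.normalCore_eq_ker]
        refine (inferInstance : K.normalCore.Normal).eq_bot_or_eq_top.resolve_right fun h => hne' ?_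
        exact top_le_iff.1 (h ▸ K.normalCore_le)
      have := Subgroup.card_dvd_of_injective _ hinj
      rw [hA360, Nat.card_perm, ← Subgroup.index] at this
      interval_cases K.index <;> norm_num [Nat.factorial] at this
    have := Nat.mul_le_mul_right (Nat.card K) h6
    have hk := hlow.1
    have h24 : Nat.card (blockGroup f ⊓ (alternatingGroup Ω) : Subgroup (Perm Ω)) = 24 := by
      refine le_antisymm ?_ (by omega)
      have hcard := card_blockGroup hf (show 1 ≤ 2 by omega)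
      simp only [Nat.factorial, Nat.reduceMul, Nat.reduceAdd, Nat.reducePow, Nat.succ_eq_add_one, one_mul] at hcard
      have hd := Subgroup.card_dvd_of_le (inf_le_left : blockGroup f ⊓ (alternatingGroup Ω) ≤ blockGroup f)
      rw [← hcard] at hd
      have hne2 : Nat.card (blockGroup f ⊓ (alternatingGroup Ω) : Subgroup (Perm Ω)) ≠ 48 := fun h => by
        have e := Subgroup.eq_of_le_of_card_ge (inf_le_left : blockGroup f ⊓ (alternatingGroup Ω) ≤ blockGroup f)
          (by rw [h, ← hcard])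
        have := (Subgroup.mem_inf.1 (e.ge (swap_mem hx'))).2
        rw [Equiv.Perm.mem_alternatingGroup, sign_swap hne] at this
        exact absurd this (by decide)
      obtain ⟨c, hc⟩ := hd
      rcases c with _ | _ | c
      · omega
      · omega
      · have := Nat.mul_le_mul_left (Nat.card (blockGroup f ⊓ (alternatingGroup Ω) : Subgroup (Perm Ω)))
          (show 2 ≤ c + 1 + 1 by omega)
        omega
    rw [h24] at hk hdbl
    obtain ⟨k, hk⟩ := hk
    have : k ≤ 2 := by omega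
    have hk2 : k = 2 := by omega
    rw [hk, hk2] at hidx
    omega
  · exact absurd hn (by omega)

end

end CfsgLib.Perm.Blocks
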