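import Mathlib

/-! Manning's theorem on extremely primitive groups. -/

set_option autoImplicit false

namespace CfsgLib.ExtremePrim

open MulAction
open scoped Pointwise

variable {G : Type*} [Group G] {Ω : Type*} [MulAction G Ω]

/-- Length of the orbit of `b` under the stabiliser of `a`. -/
noncomputable def deg (G : Type*) [Group G] {Ω : Type*} [MulAction G Ω] (a b : Ω) : ℕ :=
  Nat.card (orbit (stabilizer G a) b)

theorem deg_smul (g : G) (a b : Ω) : deg G (g • a) (g • b) = deg G a b := by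
  have h : orbit (stabilizer G (g • a)) (g • b) = (g • ·) '' orbit (stabilizer G a) b := by
    ext y
    constructor
    · rintro ⟨⟨h, hh⟩, rfl⟩
      refine ⟨(g⁻¹ * h * g) • b, ⟨⟨g⁻¹ * h * g, ?_⟩, rfl⟩, ?_⟩
      · rw [mem_stabilizer_iff, mul_smul, mul_smul, mem_stabilizer_iff.mp hh, inv_smul_smul]
      · show g • (g⁻¹ * h * g) • b = h • g • b
        rw [mul_smul, mul_smul, smul_inv_smul]
    · rintro ⟨_, ⟨⟨h, hh⟩, rfl⟩, rfl⟩
      refine ⟨⟨g * h * g⁻¹, ?_⟩, ?_⟩
      · rw [mem_stabilizer_iff, mul_smul, mul_smul, inv_smul_smul, mem_stabilizer_iff.mp hh]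
      · show (g * h * g⁻¹) • g • b = g • h • b
        rw [mul_smul, mul_smul, inv_smul_smul]
  unfold deg
  rw [h, Nat.card_image_of_injective (MulAction.injective g)]

theorem card_stabilizer_eq [IsPretransitive G Ω] (a b : Ω) :
    Nat.card (stabilizer G a) = Nat.card (stabilizer G b) := by
  obtain ⟨g, rfl⟩ := exists_smul_eq G a b
  rw [stabilizer_smul_eq_stabilizer_map_conj g a]
  exact Nat.card_congr ((stabilizer G a).equivMapOfInjective _ (MulAut.conj g).injective).toEquiv

theorem deg_mul (a b : Ω) :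
    deg G a b * Nat.card (stabilizer G a ⊓ stabilizer G b : Subgroup G) =
      Nat.card (stabilizer G a) := by
  have h1 : deg G a b = (stabilizer G b).relIndex (stabilizer G a) := by
    have h2 := index_stabilizer (stabilizer G a) b
    unfold deg
    rw [Nat.card_coe_set_eq, ← h2]
    rfl
  rw [h1, ← Subgroup.inf_relIndex_left (stabilizer G a) (stabilizer G b),
    ← Subgroup.relIndex_bot_left, ← Subgroup.relIndex_bot_left, mul_comm]
  exact Subgroup.relIndex_mul_relIndex _ _ _ bot_le inf_le_left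

theorem deg_comm [Finite G] [IsPretransitive G Ω] (a b : Ω) : deg G a b = deg G b a := by
  have h1 := deg_mul (G := G) a b
  have h2 := deg_mul (G := G) b a
  rw [inf_comm, card_stabilizer_eq b a, ← h1] at h2
  exact (mul_right_cancel₀ Nat.card_pos.ne' h2).symm

theorem deg_self (a : Ω) : deg G a a = 1 := by
  have h : orbit (stabilizer G a) a = {a} := by
    ext y
    constructor
    · rintro ⟨⟨h, hh⟩, rfl⟩; exact hh
    · rintro rfl; exact mem_orbit_self _
  unfold deg
  rw [h]; simp

/-- A normal subgroup of a stabiliser is transitive on the orbits it moves. -/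
theorem transitive_on_orbit
    (hep : ∀ a b : Ω, IsPreprimitive (stabilizer G a) (orbit (stabilizer G a) b))
    (N : Subgroup G) (a : Ω) (hle : N ≤ stabilizer G a)
    (hn : stabilizer G a ≤ Subgroup.normalizer (N : Set G))
    {x : Ω} {n : G} (hnN : n ∈ N) (hnx : n • x ≠ x)
    {y : Ω} (hy : y ∈ orbit (stabilizer G a) x) : ∃ m ∈ N, m • x = y := by
  haveI := hep a x
  haveI : (N.subgroupOf (stabilizer G a)).Normal :=
    (Subgroup.normal_subgroupOf_iff_le_normalizer hle).mpr hn
  have hne : fixedPoints (N.subgroupOf (stabilizer G a)) (orbit (stabilizer G a) x) ≠ Set.univ := by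
    intro h
    have := Set.eq_univ_iff_forall.mp h ⟨x, mem_orbit_self x⟩ ⟨⟨n, hle hnN⟩, hnN⟩
    exact hnx (congrArg Subtype.val this)
  haveI := IsQuasiPreprimitive.isPretransitive_of_normal hne
  obtain ⟨⟨m, hm⟩, hmx⟩ := exists_smul_eq (N.subgroupOf (stabilizer G a))
    (⟨x, mem_orbit_self x⟩ : orbit (stabilizer G a) x) ⟨y, hy⟩
  exact ⟨(m : G), hm, congrArg Subtype.val hmx⟩

section main

variable [Finite G] [Finite Ω] [FaithfulSMul G Ω] [IsPreprimitive G Ω]

theorem eq_one_of_fix_all {g : G} (h : ∀ z : Ω, g • z = z) : g = 1 :=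
  eq_of_smul_eq_smul fun z : Ω => by rw [h z, one_smul]

theorem bot_of_normal_of_le_stabilizer (N : Subgroup G) [N.Normal] (a : Ω)
    (hle : N ≤ stabilizer G a) : N = ⊥ := by
  rw [eq_bot_iff]
  intro n hn
  rw [Subgroup.mem_bot]
  refine eq_one_of_fix_all (Ω := Ω) fun z => ?_
  obtain ⟨g, rfl⟩ := exists_smul_eq G a z
  have h := hle (‹N.Normal›.conj_mem n hn g⁻¹)
  rw [mem_stabilizer_iff, mul_smul, mul_smul, inv_inv] at h
  exact inv_smul_eq_iff.mp h

variable (hH : ∀ a : Ω, stabilizer G a ≠ ⊥)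
include hH

theorem nontrivial (a : Ω) : Nontrivial Ω := by
  obtain ⟨g, hg, hg1⟩ := (Subgroup.bot_or_exists_ne_one (stabilizer G a)).resolve_left (hH a)
  by_contra h
  rw [not_nontrivial_iff_subsingleton] at h
  exact hg1 (eq_one_of_fix_all (Ω := Ω) fun z => Subsingleton.elim _ _)

theorem stabilizer_inj {a b : Ω} (h : stabilizer G a = stabilizer G b) : a = b := by
  by_contra hab
  haveI := nontrivial hH a
  have hco := IsPreprimitive.isCoatom_stabilizer_of_isPreprimitive G a
  obtain ⟨g, hg⟩ := exists_smul_eq G a b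
  have hgn : g ∈ Subgroup.normalizer (stabilizer G a : Set G) := by
    rw [Subgroup.mem_normalizer_iff]
    intro k
    conv_rhs => rw [h]
    rw [mem_stabilizer_iff, mem_stabilizer_iff, ← hg, mul_smul, mul_smul, inv_smul_smul]
    exact ⟨fun e => by rw [e], fun e => MulAction.injective g e⟩
  have htop : Subgroup.normalizer (stabilizer G a : Set G) = ⊤ := by
    refine hco.2 _ (lt_of_le_of_ne Subgroup.le_normalizer ?_)
    intro e
    rw [← e, mem_stabilizer_iff, hg] at hgn
    exact hab hgn.symm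
  haveI := Subgroup.normalizer_eq_top_iff.mp htop
  exact hH a (bot_of_normal_of_le_stabilizer (stabilizer G a) a le_rfl)

theorem sup_stabilizer {a b : Ω} (hab : a ≠ b) : stabilizer G a ⊔ stabilizer G b = ⊤ := by
  haveI := nontrivial hH a
  refine (IsPreprimitive.isCoatom_stabilizer_of_isPreprimitive G a).2 _
    (lt_of_le_of_ne le_sup_left ?_)
  intro e
  have hle : stabilizer G b ≤ stabilizer G a := e ▸ le_sup_right
  exact hab (stabilizer_inj hH (Subgroup.eq_of_le_of_card_ge hle (card_stabilizer_eq a b).le)).symm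

theorem mem_of_invariant {a b : Ω} (hab : a ≠ b) {S : Set Ω} {x : Ω} (hx : x ∈ S)
    (ha : ∀ h ∈ stabilizer G a, ∀ s ∈ S, h • s ∈ S)
    (hb : ∀ h ∈ stabilizer G b, ∀ s ∈ S, h • s ∈ S) (z : Ω) : z ∈ S := by
  have key : stabilizer G S = ⊤ := by
    rw [eq_top_iff, ← sup_stabilizer hH hab, sup_le_iff]
    constructor <;> intro g hg <;> rw [mem_stabilizer_set_iff_smul_set_subset (Set.toFinite S)] <;>
      rintro _ ⟨s, hs, rfl⟩
    exacts [ha g hg s hs, hb g hg s hs]
  obtain ⟨g, rfl⟩ := exists_smul_eq G x z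
  have hg : g • S = S := mem_stabilizer_iff.mp (key ▸ Subgroup.mem_top g)
  rw [← hg]
  exact Set.smul_mem_smul_set hx

variable (hep : ∀ a b : Ω, IsPreprimitive (stabilizer G a) (orbit (stabilizer G a) b))
include hep

omit hep in
theorem eq_orbit_of_subset {a b x y : Ω} {m : ℕ} (hm : ∀ p q : Ω, deg G p q ≤ m)
    (hd : deg G a x = m) (hab : a ≠ b)
    (hsub : orbit (stabilizer G a) x ⊆ orbit (stabilizer G b) y) :
    ∀ z : Ω, z ∈ orbit (stabilizer G a) x := by
  have hle : (orbit (stabilizer G b) y).ncard ≤ (orbit (stabilizer G a) x).ncard := by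
    rw [← Nat.card_coe_set_eq, ← Nat.card_coe_set_eq]
    exact (hm b y).trans hd.ge
  have heq := Set.eq_of_subset_of_ncard_le hsub hle (Set.toFinite _)
  refine mem_of_invariant hH hab (mem_orbit_self x) (fun h hh s hs => ?_) (fun h hh s hs => ?_)
  · exact (MulAction.mem_orbit_of_mem_orbit (⟨h, hh⟩ : stabilizer G a) hs)
  · rw [heq] at hs ⊢
    exact (MulAction.mem_orbit_of_mem_orbit (⟨h, hh⟩ : stabilizer G b) hs)

/-- A normal subgroup of `G_a` fixing a point `d ≠ a` fixes all maximal suborbits of `a`. -/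
theorem fix_max {m : ℕ} (hm : ∀ p q : Ω, deg G p q ≤ m) (N : Subgroup G) (a d : Ω) (had : d ≠ a)
    (hle : N ≤ stabilizer G a) (hn : stabilizer G a ≤ Subgroup.normalizer (N : Set G))
    (hd : ∀ n ∈ N, n • d = d) {x : Ω} (hx : deg G a x = m) {n : G} (hnN : n ∈ N) : n • x = x := by
  by_contra hnx
  have hsub : orbit (stabilizer G a) x ⊆ orbit (stabilizer G d) x := by
    intro y hy
    obtain ⟨k, hk, rfl⟩ := transitive_on_orbit hep N a hle hn hnN hnx hy
    exact ⟨⟨k, hd k hk⟩, rfl⟩
  obtain ⟨⟨h, hh⟩, hha⟩ := eq_orbit_of_subset hH hm hx had.symm hsub a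
  have hxa : x = a := MulAction.injective h (hha.trans (mem_stabilizer_iff.mp hh).symm)
  exact hnx (by rw [hxa]; exact hle hnN)

/-- Manning: a stabiliser element fixing a whole suborbit pointwise is trivial. -/
theorem manning (a w : Ω) (hw : w ≠ a) {g : G} (hg : g ∈ stabilizer G a)
    (hfix : ∀ x ∈ orbit (stabilizer G a) w, g • x = x) : g = 1 := by
  classical
  haveI := Fintype.ofFinite Ω
  obtain ⟨⟨p₀, q₀⟩, -, hmax⟩ := Finset.exists_max_image (Finset.univ : Finset (Ω × Ω))
    (fun pq => deg G pq.1 pq.2) ⟨(a, w), Finset.mem_univ _⟩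
  obtain ⟨m, hmdef⟩ : ∃ m, m = deg G p₀ q₀ := ⟨_, rfl⟩
  have hm : ∀ p q : Ω, deg G p q ≤ m := fun p q => hmdef ▸ hmax (p, q) (Finset.mem_univ _)
  have hex : ∀ b : Ω, ∃ d, deg G b d = m := by
    intro b
    obtain ⟨k, rfl⟩ := exists_smul_eq G p₀ b
    exact ⟨k • q₀, by rw [deg_smul, hmdef]⟩
  have hm2 : 2 ≤ m := by
    by_contra hlt
    obtain ⟨k, hk, hk1⟩ := (Subgroup.bot_or_exists_ne_one (stabilizer G a)).resolve_left (hH a)
    refine hk1 (eq_one_of_fix_all (Ω := Ω) fun z => ?_)
    have h1 : (orbit (stabilizer G a) z).ncard ≤ 1 := by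
      rw [← Nat.card_coe_set_eq]; exact (hm a z).trans (by omega)
    exact (Set.ncard_le_one (Set.toFinite _)).mp h1 _ ⟨⟨k, hk⟩, rfl⟩ _ (mem_orbit_self z)
  have hne : ∀ b d : Ω, deg G b d = m → d ≠ b := fun b d hd e => by
    rw [e, deg_self] at hd; omega
  -- pointwise stabiliser of the maximal suborbits
  let K : Ω → Subgroup G := fun b => stabilizer G b ⊓ fixingSubgroup G {x | deg G b x = m}
  have memK : ∀ (b : Ω) (k : G), k ∈ K b ↔ k • b = b ∧ ∀ x, deg G b x = m → k • x = x := by
    intro b k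
    simp only [K, Subgroup.mem_inf, mem_stabilizer_iff, mem_fixingSubgroup_iff, Set.mem_ofPred_eq]
  have hKconj : ∀ (b : Ω) (h k : G), k ∈ K b → h * k * h⁻¹ ∈ K (h • b) := by
    intro b h k hk
    rw [memK] at hk ⊢
    refine ⟨by rw [mul_smul, mul_smul, inv_smul_smul, hk.1], fun x hx => ?_⟩
    have h' : deg G b (h⁻¹ • x) = m := by
      rw [← deg_smul h, smul_inv_smul]; exact hx
    rw [mul_smul, mul_smul, hk.2 _ h', smul_inv_smul]
  have hKn : ∀ b : Ω, stabilizer G b ≤ Subgroup.normalizer (K b : Set G) := by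
    intro b h hh
    rw [Subgroup.mem_normalizer_iff]
    intro k
    constructor
    · intro hk; simpa [mem_stabilizer_iff.mp hh] using hKconj b h k hk
    · intro hk
      have h2 := hKconj b h⁻¹ _ hk
      rw [mem_stabilizer_iff.mp (inv_mem hh)] at h2
      simpa [mul_assoc] using h2
  have hKcard : ∀ b c : Ω, Nat.card (K b) = Nat.card (K c) := by
    intro b c
    obtain ⟨h, rfl⟩ := exists_smul_eq G b c
    refine Nat.card_congr ⟨fun k => ⟨h * k * h⁻¹, hKconj b h k k.2⟩,
      fun k => ⟨h⁻¹ * k * h, ?_⟩, fun k => ?_, fun k => ?_⟩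
    · have := hKconj (h • b) h⁻¹ k k.2
      rwa [inv_smul_smul, inv_inv] at this
    · exact Subtype.ext (by group)
    · exact Subtype.ext (by group)
  have hKbot : K a = ⊥ := by
    obtain ⟨d, hd⟩ := hex a
    have hda : d ≠ a := hne a d hd
    have hLa : ∀ l ∈ K d, l • a = a := fun l hl =>
      ((memK d l).mp hl).2 a (by rw [deg_comm]; exact hd)
    by_cases hLfix : ∀ l ∈ K d, ∀ x ∈ orbit (stabilizer G a) d, l • x = x
    · have hle : K d ≤ K a := by
        intro l hl
        let N : Subgroup G := stabilizer G a ⊓ fixingSubgroup G (orbit (stabilizer G a) d)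
        have hNn : stabilizer G a ≤ Subgroup.normalizer (N : Set G) := by
          have hconj : ∀ h ∈ stabilizer G a, ∀ k ∈ N, h * k * h⁻¹ ∈ N := by
            intro h hh k hk
            simp only [N, Subgroup.mem_inf, mem_fixingSubgroup_iff] at hk ⊢
            refine ⟨mul_mem (mul_mem hh hk.1) (inv_mem hh), fun x hx => ?_⟩
            have hx' : h⁻¹ • x ∈ orbit (stabilizer G a) d :=
              MulAction.mem_orbit_of_mem_orbit (⟨h⁻¹, inv_mem hh⟩ : stabilizer G a) hx
            rw [mul_smul, mul_smul, hk.2 _ hx', smul_inv_smul]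
          intro h hh
          rw [Subgroup.mem_normalizer_iff]
          intro k
          exact ⟨hconj h hh k, fun hk => by simpa [mul_assoc] using hconj h⁻¹ (inv_mem hh) _ hk⟩
        have hlN : l ∈ N := by
          simp only [N, Subgroup.mem_inf, mem_fixingSubgroup_iff]
          exact ⟨hLa l hl, hLfix l hl⟩
        rw [memK]
        refine ⟨hLa l hl, fun x hx => fix_max hH hep hm N a d hda inf_le_left hNn ?_ hx hlN⟩
        intro n hn
        simp only [N, Subgroup.mem_inf, mem_fixingSubgroup_iff] at hn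
        exact hn.2 d (mem_orbit_self d)
      have heq : K d = K a := Subgroup.eq_of_le_of_card_ge hle (hKcard a d).le
      have htop : Subgroup.normalizer (K a : Set G) = ⊤ := by
        rw [eq_top_iff, ← sup_stabilizer hH hda.symm, sup_le_iff]
        exact ⟨hKn a, heq ▸ hKn d⟩
      haveI := Subgroup.normalizer_eq_top_iff.mp htop
      exact bot_of_normal_of_le_stabilizer (K a) a inf_le_left
    · exfalso
      push Not at hLfix
      obtain ⟨l, hl, x, hx, hlx⟩ := hLfix
      have hxm : deg G a x = m := by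
        unfold deg at hd ⊢
        rw [MulAction.orbit_eq_iff.mpr hx]; exact hd
      have hxd : x ≠ d := fun e => hlx (by rw [e]; exact ((memK d l).mp hl).1)
      have hsub : orbit (stabilizer G d) a ⊆ orbit (stabilizer G x) a := by
        rintro _ ⟨⟨h, hh⟩, rfl⟩
        have hy : h⁻¹ • x ∈ orbit (stabilizer G d) x := ⟨⟨h⁻¹, inv_mem hh⟩, rfl⟩
        obtain ⟨l', hl', hl'x⟩ := transitive_on_orbit hep (K d) d inf_le_left (hKn d) hl hlx hy
        refine ⟨⟨h * l', ?_⟩, ?_⟩
        · rw [mem_stabilizer_iff, mul_smul, hl'x, smul_inv_smul]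
        · show (h * l') • a = h • a
          rw [mul_smul, hLa l' hl']
      have hdm : deg G d a = m := by rw [deg_comm]; exact hd
      obtain ⟨⟨h, hh⟩, hha⟩ := eq_orbit_of_subset hH hm hdm hxd.symm hsub d
      exact hda (MulAction.injective h (hha.trans (mem_stabilizer_iff.mp hh).symm)).symm
  -- the kernel on the given suborbit lies in `K a`
  let N : Subgroup G := stabilizer G a ⊓ fixingSubgroup G (orbit (stabilizer G a) w)
  have hNn : stabilizer G a ≤ Subgroup.normalizer (N : Set G) := by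
    have hconj : ∀ h ∈ stabilizer G a, ∀ k ∈ N, h * k * h⁻¹ ∈ N := by
      intro h hh k hk
      simp only [N, Subgroup.mem_inf, mem_fixingSubgroup_iff] at hk ⊢
      refine ⟨mul_mem (mul_mem hh hk.1) (inv_mem hh), fun x hx => ?_⟩
      have hx' : h⁻¹ • x ∈ orbit (stabilizer G a) w :=
        MulAction.mem_orbit_of_mem_orbit (⟨h⁻¹, inv_mem hh⟩ : stabilizer G a) hx
      rw [mul_smul, mul_smul, hk.2 _ hx', smul_inv_smul]
    intro h hh
    rw [Subgroup.mem_normalizer_iff]
    intro k
    exact ⟨hconj h hh k, fun hk => by simpa [mul_assoc] using hconj h⁻¹ (inv_mem hh) _ hk⟩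
  have hgN : g ∈ N := by
    simp only [N, Subgroup.mem_inf, mem_fixingSubgroup_iff]
    exact ⟨hg, hfix⟩
  have hgK : g ∈ K a := by
    rw [memK]
    refine ⟨hg, fun x hx => fix_max hH hep hm N a w hw inf_le_left hNn ?_ hx hgN⟩
    intro n hn
    simp only [N, Subgroup.mem_inf, mem_fixingSubgroup_iff] at hn
    exact hn.2 w (mem_orbit_self w)
  rw [hKbot] at hgK
  exact Subgroup.mem_bot.mp hgK

end main

end CfsgLib.ExtremePrim
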