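import Cfsg.Prelude
import Mathlib
import Cfsg.Agent.Lib.Core
import Cfsg.Agent.Lib.Perm.RegularNormal

/-! Abelian normal subgroups and the Fitting subgroup of a faithful primitive group. -/

set_option autoImplicit false

namespace CfsgLib.PrimAbelian

open MulAction

variable {H X : Type*} [Group H] [MulAction H X] [FaithfulSMul H X] [IsPreprimitive H X]

theorem transitive {N : Subgroup H} [N.Normal] (hN : N ≠ ⊥) : IsPretransitive N X := by
  refine IsQuasiPreprimitive.isPretransitive_of_normal (G := H) fun h => hN ?_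
  rw [eq_bot_iff]
  intro n hn
  rw [Subgroup.mem_bot]
  refine eq_of_smul_eq_smul fun x : X => ?_
  rw [one_smul]
  exact (Set.eq_univ_iff_forall.mp h x) ⟨n, hn⟩

variable {A : Subgroup H} [A.Normal] (hA : A ≠ ⊥) (hab : ∀ a ∈ A, ∀ b ∈ A, a * b = b * a)
include hA hab

theorem semiregular (x : X) : stabilizer A x = ⊥ := by
  haveI := transitive (X := X) hA
  rw [eq_bot_iff]
  rintro ⟨a, ha⟩ hax
  rw [Subgroup.mem_bot]
  refine Subtype.ext (eq_of_smul_eq_smul fun y : X => ?_)
  obtain ⟨⟨b, hb⟩, rfl⟩ := exists_smul_eq A x y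
  show a • b • x = (1 : H) • b • x
  rw [one_smul, ← mul_smul, hab a ha b hb, mul_smul]
  exact congrArg (b • ·) hax

theorem fix_eq_one {a : H} (ha : a ∈ A) {x : X} (hx : a • x = x) : a = 1 := by
  have h : (⟨a, ha⟩ : A) ∈ stabilizer A x := hx
  rw [semiregular hA hab x, Subgroup.mem_bot] at h
  exact congrArg Subtype.val h

theorem card_eq [Finite X] [Nonempty X] : Nat.card A = Nat.card X :=
  CfsgLib.Perm.card_regular (transitive hA) (semiregular hA hab) (Classical.arbitrary X)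

theorem centralizer_le [Nonempty X] {c : H} (hc : ∀ a ∈ A, c * a = a * c) : c ∈ A := by
  haveI := transitive (X := X) hA
  obtain ⟨x⟩ := ‹Nonempty X›
  obtain ⟨⟨a, ha⟩, hax⟩ := exists_smul_eq A x (c • x)
  have hax' : a • x = c • x := hax
  have h : c = a := by
    refine eq_of_smul_eq_smul fun y : X => ?_
    obtain ⟨⟨b, hb⟩, rfl⟩ := exists_smul_eq A x y
    show c • b • x = a • b • x
    rw [← mul_smul, ← mul_smul, hc b hb, hab a ha b hb, mul_smul, mul_smul, hax']
  rw [h]; exact ha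

theorem minimal [Finite H] [Finite X] [Nonempty X] (B : Subgroup H) [B.Normal] (hB : B ≠ ⊥)
    (hle : B ≤ A) : B = A := by
  refine Subgroup.eq_of_le_of_card_ge hle ?_
  rw [card_eq (X := X) hA hab, card_eq (X := X) hB fun a ha b hb => hab a (hle ha) b (hle hb)]

omit [A.Normal] hA hab in
/-- The Fitting subgroup is abelian. -/
theorem fitting_abelian [Finite H] [Finite X] [Nonempty X] :
    ∀ a ∈ Cfsg.fittingSubgroup H, ∀ b ∈ Cfsg.fittingSubgroup H, a * b = b * a := by
  rcases eq_or_ne (Cfsg.fittingSubgroup H) ⊥ with hF | hF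
  · intro a ha b hb
    rw [hF, Subgroup.mem_bot] at ha hb
    rw [ha, hb]
  haveI := CfsgLib.Core.fittingSubgroup_normal (G := H)
  haveI := CfsgLib.Core.isNilpotent_fittingSubgroup (G := H)
  haveI : Nontrivial (Cfsg.fittingSubgroup H) := (Subgroup.nontrivial_iff_ne_bot _).mpr hF
  obtain ⟨Z, hZdef⟩ : ∃ Z, Z = (Subgroup.center (Cfsg.fittingSubgroup H)).map
      (Cfsg.fittingSubgroup H).subtype := ⟨_, rfl⟩
  haveI : Z.Normal := by
    rw [hZdef]; exact ConjAct.normal_of_characteristic_of_normal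
  have hZne : Z ≠ ⊥ := by
    rw [hZdef, Ne, Subgroup.map_eq_bot_iff_of_injective _ Subtype.val_injective]
    exact Group.IsNilpotent.center_ne_bot _
  have hZc : ∀ z ∈ Z, ∀ a ∈ Cfsg.fittingSubgroup H, a * z = z * a := by
    intro z hz a ha
    rw [hZdef] at hz
    obtain ⟨⟨z, hzF⟩, hzc, rfl⟩ := hz
    exact congrArg Subtype.val (Subgroup.mem_center_iff.mp hzc ⟨a, ha⟩)
  have hle : Z ≤ Cfsg.fittingSubgroup H := hZdef ▸ Subgroup.map_subtype_le _
  have hZab : ∀ a ∈ Z, ∀ b ∈ Z, a * b = b * a := fun a ha b hb => hZc b hb a (hle ha)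
  intro a ha b hb
  exact hZc b (centralizer_le (X := X) hZne hZab fun z hz => hZc z hz b hb) a ha

omit [A.Normal] hA hab in
/-- An abelian normal subgroup is elementary abelian. -/
theorem exists_prime [Finite H] [Finite X] [Nonempty X] (B : Subgroup H) [hBn : B.Normal]
    (hB : B ≠ ⊥) (hBab : ∀ a ∈ B, ∀ b ∈ B, a * b = b * a) :
    ∃ p e : ℕ, p.Prime ∧ 0 < e ∧ Nat.card B = p ^ e ∧ ∀ a ∈ B, a ^ p = 1 := by
  obtain ⟨p, hp, hpd⟩ := Nat.exists_prime_and_dvd
    (fun h => hB (Subgroup.card_eq_one.mp h) : Nat.card B ≠ 1)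
  haveI := Fact.mk hp
  let K : Subgroup H :=
    { carrier := {x | x ∈ B ∧ x ^ p = 1}
      one_mem' := ⟨B.one_mem, one_pow p⟩
      mul_mem' := fun {a b} ha hb => ⟨B.mul_mem ha.1 hb.1, by
        rw [(show Commute a b from hBab a ha.1 b hb.1).mul_pow, ha.2, hb.2, one_mul]⟩
      inv_mem' := fun {a} ha => ⟨B.inv_mem ha.1, by rw [inv_pow, ha.2, inv_one]⟩ }
  haveI hKn : K.Normal := ⟨fun x hx g => ⟨hBn.conj_mem x hx.1 g, by
    rw [conj_pow, hx.2, mul_one, mul_inv_cancel]⟩⟩
  have hK : K ≠ ⊥ := by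
    obtain ⟨x, hx⟩ := exists_prime_orderOf_dvd_card' (G := B) p hpd
    intro h
    have h1 : ((x : B) : H) ∈ K := ⟨x.2, by
      rw [← Subgroup.coe_pow, ← hx, pow_orderOf_eq_one, Subgroup.coe_one]⟩
    rw [h, Subgroup.mem_bot] at h1
    rw [show x = 1 from Subtype.ext h1, orderOf_one] at hx
    exact hp.ne_one hx.symm
  have hKB : K = B := minimal (X := X) hB hBab K hK fun x hx => hx.1
  have hexp : ∀ a ∈ B, a ^ p = 1 := fun a ha => (hKB.ge ha).2
  obtain ⟨e, he⟩ := (show IsPGroup p B from fun a =>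
    ⟨1, Subtype.ext (by rw [pow_one, Subgroup.coe_pow]; exact hexp a a.2)⟩).exists_card_eq
  refine ⟨p, e, hp, Nat.pos_of_ne_zero fun h0 => hB (Subgroup.card_eq_one.mp ?_), he, hexp⟩
  rw [he, h0, pow_zero]

omit [A.Normal] hA hab in
/-- A nontrivial centre forces prime order. -/
theorem center_eq_bot [Finite H] [Finite X] [Nonempty X] (hH : ¬ (Nat.card H).Prime) :
    Subgroup.center H = ⊥ := by
  by_contra hZ
  have hZab : ∀ a ∈ Subgroup.center H, ∀ b ∈ Subgroup.center H, a * b = b * a :=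
    fun a _ b hb => Subgroup.mem_center_iff.mp hb a
  have htop : Subgroup.center H = ⊤ := eq_top_iff.mpr fun c _ =>
    centralizer_le (X := X) hZ hZab fun a ha => Subgroup.mem_center_iff.mp ha c
  have hcomm : ∀ a b : H, a * b = b * a := fun a b =>
    hZab a (htop ▸ Subgroup.mem_top a) b (htop ▸ Subgroup.mem_top b)
  have hne : (⊤ : Subgroup H) ≠ ⊥ := htop ▸ hZ
  have h1 : Nat.card H ≠ 1 := fun h => hne (Subgroup.card_eq_one.mp (by rw [Subgroup.card_top, h]))
  obtain ⟨p, hp, hpd⟩ := Nat.exists_prime_and_dvd h1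
  haveI := Fact.mk hp
  obtain ⟨x, hx⟩ := exists_prime_orderOf_dvd_card' (G := H) p hpd
  haveI : (Subgroup.zpowers x).Normal := ⟨fun y hy g => by
    rw [hcomm g y, mul_inv_cancel_right]; exact hy⟩
  have hxne : Subgroup.zpowers x ≠ ⊥ := fun h => by
    rw [Subgroup.zpowers_eq_bot] at h
    rw [h, orderOf_one] at hx
    exact hp.ne_one hx.symm
  have := minimal (X := X) (A := ⊤) hne (fun a _ b _ => hcomm a b) _ hxne le_top
  apply hH
  rw [← Subgroup.card_top, ← this, Nat.card_zpowers, hx]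
  exact hp

end CfsgLib.PrimAbelian
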