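import Mathlib

set_option autoImplicit false

/-!
# Sylow 2-subgroups of symmetric groups: the central involution and the pairs
-/

namespace CfsgLib.SylowTwoPerm

open Equiv Equiv.Perm

set_option linter.unusedSectionVars false

universe u

variable {α : Type u} [Fintype α] [DecidableEq α]

/-- Perms agreeing on each `R`-orbit with an element of `R`. -/
def orbitwise (R : Subgroup (Perm α)) : Subgroup (Perm α) where
  carrier := {g | ∀ x, ∃ r ∈ R, ∀ y, (∃ s ∈ R, s x = y) → g y = r y}
  one_mem' := fun _ => ⟨1, R.one_mem, fun _ _ => rfl⟩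
  mul_mem' := by
    intro g h hg hh x
    obtain ⟨r, hr, hr'⟩ := hh x
    obtain ⟨t, ht, ht'⟩ := hg x
    refine ⟨t * r, R.mul_mem ht hr, fun y hy => ?_⟩
    obtain ⟨s, hs, rfl⟩ := hy
    show g (h (s x)) = t (r (s x))
    rw [hr' _ ⟨s, hs, rfl⟩]
    exact ht' (r (s x)) ⟨r * s, R.mul_mem hr hs, rfl⟩
  inv_mem' := by
    intro g hg x
    obtain ⟨r, hr, hr'⟩ := hg x
    refine ⟨r⁻¹, R.inv_mem hr, fun y hy => ?_⟩
    obtain ⟨s, hs, rfl⟩ := hy
    rw [inv_eq_iff_eq, hr' (r⁻¹ (s x)) ⟨r⁻¹ * s, R.mul_mem (R.inv_mem hr) hs, rfl⟩]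
    simp

theorem le_orbitwise (R : Subgroup (Perm α)) : R ≤ orbitwise R :=
  fun g hg _ => ⟨g, hg, fun _ _ => rfl⟩

variable (R : Sylow 2 (Perm α))

theorem orbitwise_eq : orbitwise (R : Subgroup (Perm α)) = R := by
  apply R.is_maximal' _ (le_orbitwise _)
  obtain ⟨k, hk⟩ := IsPGroup.iff_card.mp R.isPGroup'
  intro ⟨g, hg⟩
  refine ⟨k, Subtype.ext ?_⟩
  ext y
  obtain ⟨r, hr, hr'⟩ := hg y
  have key : ∀ i : ℕ, (g ^ i) y = (r ^ i) y := by
    intro i
    induction i with
    | zero => simp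
    | succ i ih =>
      rw [pow_succ', pow_succ', mul_apply, mul_apply, ih,
        hr' _ ⟨r ^ i, Subgroup.pow_mem _ hr i, rfl⟩]
  have : r ^ (2 ^ k) = 1 := by
    rw [← hk]
    exact congrArg Subtype.val (pow_card_eq_one' (x := (⟨r, hr⟩ : (R : Subgroup (Perm α)))))
  simp [key, this]

/-- An element agreeing orbitwise with elements of a Sylow 2-subgroup lies in it. -/
theorem mem_of_agree (g : Perm α)
    (h : ∀ x, ∃ r ∈ (R : Subgroup (Perm α)), ∀ y, (∃ s ∈ (R : Subgroup (Perm α)), s x = y) →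
      g y = r y) : g ∈ (R : Subgroup (Perm α)) :=
  orbitwise_eq R ▸ h

/-- A subgroup normalised by a Sylow 2-subgroup that is a 2-group lies in it. -/
theorem le_sylow_of_normalized {V : Subgroup (Perm α)} (hV : IsPGroup 2 V)
    (h : ∀ r ∈ (R : Subgroup (Perm α)), ∀ v ∈ V, r * v * r⁻¹ ∈ V) :
    V ≤ (R : Subgroup (Perm α)) := by
  have hn : (R : Subgroup (Perm α)) ≤ Subgroup.normalizer (V : Set (Perm α)) := by
    intro r hr
    rw [Subgroup.mem_normalizer_iff]
    intro v
    refine ⟨h r hr v, fun hv => ?_⟩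
    have := h r⁻¹ (Subgroup.inv_mem _ hr) _ hv
    simpa [mul_assoc] using this
  have := R.is_maximal' (R.isPGroup'.to_sup_of_normal_right' hV hn) le_sup_left
  exact le_of_le_of_eq le_sup_right this

omit [Fintype α] in
/-- Conjugating a transposition. -/
theorem conj_swap (g : Perm α) (a b : α) : g * swap a b * g⁻¹ = swap (g a) (g b) := by
  rw [Equiv.mul_swap_eq_swap_mul, mul_assoc, mul_inv_cancel, mul_one]

/-- An element of a 2-group fixed pointwise outside an orbit, central, of order 2. -/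
theorem exists_central_on_orbit (a : α) :
    ∃ c ∈ (R : Subgroup (Perm α)), c * c = 1 ∧ (∀ r ∈ (R : Subgroup (Perm α)), r * c = c * r) ∧
      ((∃ r ∈ (R : Subgroup (Perm α)), r a ≠ a) → c a ≠ a) ∧
      ((∀ r ∈ (R : Subgroup (Perm α)), r a = a) → c = 1) := by
  classical
  by_cases hfix : ∀ r ∈ (R : Subgroup (Perm α)), r a = a
  · exact ⟨1, Subgroup.one_mem _, one_mul 1, by simp, fun ⟨r, hr, h⟩ => absurd (hfix r hr) h,
      fun _ => rfl⟩
  push Not at hfix
  obtain ⟨r₀, hr₀, hr₀a⟩ := hfix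
  set P : Subgroup (Perm α) := (R : Subgroup (Perm α)) with hP
  -- the elements supported on the orbit
  let N : Subgroup P :=
    { carrier := {r | ∀ y, (¬ ∃ s ∈ P, s a = y) → r.1 y = y}
      one_mem' := fun _ _ => rfl
      mul_mem' := by
        intro r t hr ht y hy
        show r.1 (t.1 y) = y
        rw [ht y hy, hr y hy]
      inv_mem' := by
        intro r hr y hy
        show r.1⁻¹ y = y
        rw [inv_eq_iff_eq, hr y hy] }
  have hN : N.Normal := ⟨fun n hn g y hy => by
    have hy' : ¬ ∃ s ∈ P, s a = g.1⁻¹ y := by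
      rintro ⟨s, hs, hsa⟩
      exact hy ⟨g.1 * s, P.mul_mem g.2 hs, by simp [hsa]⟩
    show g.1 (n.1 (g.1⁻¹ y)) = y
    rw [hn _ hy']
    simp⟩
  -- the restriction of `r₀` to the orbit
  let f : α → α := fun y => if ∃ s ∈ P, s a = y then r₀ y else y
  let f' : α → α := fun y => if ∃ s ∈ P, s a = y then r₀⁻¹ y else y
  have hinv : ∀ (r : Perm α), r ∈ P → ∀ y, (∃ s ∈ P, s a = r y) ↔ ∃ s ∈ P, s a = y := by
    intro r hr y
    constructor
    · rintro ⟨s, hs, h⟩
      exact ⟨r⁻¹ * s, P.mul_mem (P.inv_mem hr) hs, by simp [h]⟩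
    · rintro ⟨s, hs, h⟩
      exact ⟨r * s, P.mul_mem hr hs, by simp [h]⟩
  let e : Perm α := ⟨f, f', fun y => by
      by_cases hy : ∃ s ∈ P, s a = y
      · simp only [f, f', if_pos hy, if_pos ((hinv r₀ hr₀ y).mpr hy)]
        simp
      · simp only [f, f', if_neg hy],
    fun y => by
      by_cases hy : ∃ s ∈ P, s a = y
      · simp only [f, f', if_pos hy, if_pos ((hinv r₀⁻¹ (P.inv_mem hr₀) y).mpr hy)]
        simp
      · simp only [f, f', if_neg hy]⟩
  have he : e ∈ P := by
    apply mem_of_agree R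
    intro x
    by_cases hx : ∃ s ∈ P, s a = x
    · refine ⟨r₀, hr₀, ?_⟩
      rintro y ⟨s, hs, rfl⟩
      show f (s x) = _
      simp only [f, if_pos ((hinv s hs x).mpr hx)]
    · refine ⟨1, P.one_mem, ?_⟩
      rintro y ⟨s, hs, rfl⟩
      show f (s x) = _
      simp only [f, if_neg (fun h => hx ((hinv s hs x).mp h))]
      rfl
  have heN : (⟨e, he⟩ : P) ∈ N := fun y hy => by show f y = y; simp only [f, if_neg hy]
  have hne : (⟨e, he⟩ : P) ≠ 1 := fun h => hr₀a <| by
    have := congrArg (fun p : P => p.1 a) h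
    change f a = a at this
    simp only [f, if_pos (⟨1, P.one_mem, rfl⟩ : ∃ s ∈ P, s a = a)] at this
    exact this
  -- a normal nontrivial subgroup meets the centre
  have hNnt : Nontrivial N := ⟨⟨⟨_, heN⟩, 1, fun h => hne (congrArg Subtype.val h)⟩⟩
  obtain ⟨c, hc, hcne⟩ : ∃ c ∈ N, c ≠ 1 ∧ c ∈ Subgroup.center P := by
    have hp : IsPGroup 2 (ConjAct P) := R.isPGroup'.of_equiv ConjAct.toConjAct
    have hdvd : 2 ∣ Nat.card N := by
      obtain ⟨k, hk0, hk⟩ := (R.isPGroup'.to_subgroup N).nontrivial_iff_card.mp hNnt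
      rw [hk]
      exact dvd_pow_self 2 (by omega)
    obtain ⟨b, hb, hb1⟩ := hp.exists_fixed_point_of_prime_dvd_card_of_fixed_point N hdvd
      (a := (1 : N)) (fun g => Subtype.ext (by simp [ConjAct.smul_def]))
    refine ⟨b.1, b.2, fun h => hb1 (Subtype.ext h.symm), Subgroup.mem_center_iff.mpr fun g => ?_⟩
    have h2 := congrArg Subtype.val (hb (ConjAct.toConjAct g))
    rw [ConjAct.Subgroup.val_conj_smul, ConjAct.smul_def, ConjAct.ofConjAct_toConjAct] at h2
    conv_rhs => rw [← h2]
    group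
  obtain ⟨hc1, hcz⟩ := hcne
  obtain ⟨j, hj⟩ : ∃ j, orderOf c = 2 ^ (j + 1) := by
    obtain ⟨j, hj⟩ := R.isPGroup' c
    obtain ⟨i, _, hi⟩ := (Nat.dvd_prime_pow Nat.prime_two).mp (orderOf_dvd_of_pow_eq_one hj)
    rcases i with _ | i
    · exact absurd (orderOf_eq_one_iff.mp (by simpa using hi)) hc1
    · exact ⟨i, hi⟩
  set d : P := c ^ (2 ^ j) with hd
  have hd1 : d ≠ 1 := fun h => by
    have := orderOf_dvd_of_pow_eq_one h
    rw [hj, Nat.pow_dvd_pow_iff_le_right (by norm_num)] at this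
    omega
  have hd2 : d * d = 1 := by
    rw [hd, ← pow_add, ← two_mul, ← pow_succ', ← hj, pow_orderOf_eq_one]
  have hdN : d ∈ N := N.pow_mem hc _
  have hdz : d ∈ Subgroup.center P := Subgroup.pow_mem _ hcz _
  refine ⟨d.1, d.2, congrArg Subtype.val hd2,
    fun r hr => congrArg Subtype.val (Subgroup.mem_center_iff.mp hdz ⟨r, hr⟩),
    fun _ hda => hd1 (Subtype.ext (Equiv.ext fun y => ?_)),
    fun h => absurd (h r₀ hr₀) hr₀a⟩
  show d.1 y = y
  by_cases hy : ∃ s ∈ P, s a = y
  · obtain ⟨s, hs, rfl⟩ := hy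
    have := congrArg (fun p : P => p.1 a) (Subgroup.mem_center_iff.mp hdz ⟨s, hs⟩)
    change s (d.1 a) = d.1 (s a) at this
    rw [← this, hda]
  · exact hdN y hy

/-- Data: a central involution of `R` fixing at most one point. -/
structure IsPairing (z : Perm α) : Prop where
  mem : z ∈ (R : Subgroup (Perm α))
  sq : z * z = 1
  comm : ∀ r ∈ (R : Subgroup (Perm α)), r * z = z * r
  fix : ∀ x y, z x = x → z y = y → x = y

theorem exists_pairing : ∃ z, IsPairing R z := by
  classical
  set P : Subgroup (Perm α) := (R : Subgroup (Perm α)) with hP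
  let st : Setoid α := ⟨fun x y => ∃ s ∈ P, s x = y,
    ⟨fun x => ⟨1, P.one_mem, rfl⟩,
     fun {x y} ⟨s, hs, h⟩ => ⟨s⁻¹, P.inv_mem hs, by simp [← h]⟩,
     fun {x y w} ⟨s, hs, h⟩ ⟨t, ht, h'⟩ => ⟨t * s, P.mul_mem ht hs, by simp [h, h']⟩⟩⟩
  choose zc hzc using fun a => exists_central_on_orbit R a
  let rep : α → α := fun x => (Quotient.mk st x).out
  have hrel : ∀ x, ∃ s ∈ P, s (rep x) = x := fun x => Quotient.mk_out (s := st) x
  have hrep : ∀ x r, r ∈ P → rep (r x) = rep x := fun x r hr => by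
    show (Quotient.mk st (r x)).out = _
    rw [Quotient.sound (s := st) (show ∃ s ∈ P, s (r x) = x from ⟨r⁻¹, P.inv_mem hr, by simp⟩)]
  have hinv : Function.Involutive (fun x => zc (rep x) x) := by
    intro x
    simp only
    rw [hrep x _ (hzc (rep x)).1]
    exact congrArg (fun p : Perm α => p x) (hzc (rep x)).2.1
  let z : Perm α := hinv.toPerm _
  have hzdef : ∀ x, z x = zc (rep x) x := fun x => rfl
  have hzP : z ∈ P := by
    apply mem_of_agree R
    refine fun x => ⟨zc (rep x), (hzc _).1, ?_⟩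
    rintro y ⟨s, hs, rfl⟩
    rw [hzdef, hrep x s hs]
  have hfixed : ∀ x, z x = x → ∀ r ∈ P, r x = x := by
    intro x hx r hr
    by_contra hne
    obtain ⟨s, hs, hsx⟩ := hrel x
    have hmov : ∃ t ∈ P, t (rep x) ≠ rep x := by
      refine ⟨s⁻¹ * r * s, P.mul_mem (P.mul_mem (P.inv_mem hs) hr) hs, fun h => hne ?_⟩
      have := congrArg s h
      simpa [hsx] using this
    apply (hzc (rep x)).2.2.2.1 hmov
    have h2 : s (zc (rep x) (rep x)) = zc (rep x) (s (rep x)) :=
      congrArg (fun p : Perm α => p (rep x)) ((hzc (rep x)).2.2.1 s hs)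
    rw [hsx, ← hzdef, hx] at h2
    apply s.injective
    rw [h2, hsx]
  refine ⟨z, hzP, Equiv.ext fun x => hinv x, fun r hr => Equiv.ext fun x => ?_, ?_⟩
  · show r (z x) = z (r x)
    rw [hzdef, hzdef, hrep x r hr]
    exact congrArg (fun p : Perm α => p x) ((hzc (rep x)).2.2.1 r hr)
  intro x y hx hy
  by_contra hxy
  have hs : swap x y ∈ P := by
    apply le_sylow_of_normalized R (V := Subgroup.zpowers (swap x y))
    · apply IsPGroup.of_card (n := 1)
      rw [Nat.card_zpowers, pow_one]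
      exact orderOf_eq_prime (by rw [sq, swap_mul_self]) (fun h => hxy (by
        have := congrArg (fun p : Perm α => p x) h
        simpa using this.symm))
    · intro r hr v hv
      obtain ⟨i, rfl⟩ := hv
      simp only
      rw [← conj_zpow, conj_swap, hfixed x hx r hr, hfixed y hy r hr]
      exact Subgroup.zpow_mem_zpowers _ _
    · exact Subgroup.mem_zpowers _
  have := hfixed x hx _ hs
  simp at this
  exact hxy this.symm

namespace IsPairing

variable {R} {z : Perm α} (hz : IsPairing R z)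
include hz

theorem z_z (x : α) : z (z x) = x := congrArg (fun p : Perm α => p x) hz.sq

theorem mem_of_pairwise {g : Perm α} (hc : g * z = z * g) (hg : ∀ x, g x = x ∨ g x = z x) :
    g ∈ (R : Subgroup (Perm α)) := by
  let V : Subgroup (Perm α) :=
    { carrier := {g | g * z = z * g ∧ ∀ x, g x = x ∨ g x = z x}
      one_mem' := ⟨by simp, fun _ => Or.inl rfl⟩
      mul_mem' := by
        rintro g h ⟨hg, hg'⟩ ⟨hh, hh'⟩
        refine ⟨(Commute.mul_left hg hh : _), fun x => ?_⟩
        have hgz : g (z x) = z (g x) := congrArg (fun p : Perm α => p x) hg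
        show g (h x) = x ∨ g (h x) = z x
        rcases hh' x with h1 | h1 <;> rw [h1]
        · exact hg' x
        · rcases hg' x with h2 | h2 <;> rw [hgz, h2]
          · exact Or.inr rfl
          · exact Or.inl (hz.z_z x)
      inv_mem' := by
        rintro g ⟨hg, hg'⟩
        refine ⟨(Commute.inv_left hg : _), fun x => ?_⟩
        have hgz : g (z x) = z (g x) := congrArg (fun p : Perm α => p x) hg
        rcases hg' x with h2 | h2
        · exact Or.inl (by rw [inv_eq_iff_eq]; exact h2.symm)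
        · exact Or.inr (by rw [inv_eq_iff_eq, hgz, h2, hz.z_z]) }
  have hV : IsPGroup 2 V := by
    intro ⟨v, hv, hv'⟩
    refine ⟨1, Subtype.ext (Equiv.ext fun x => ?_)⟩
    have hvz : v (z x) = z (v x) := congrArg (fun p : Perm α => p x) hv
    show (v ^ 2 ^ 1) x = x
    rw [pow_one, pow_two]
    show v (v x) = x
    rcases hv' x with h | h
    · rw [h, h]
    · rw [h, hvz, h, hz.z_z]
  refine le_sylow_of_normalized R hV ?_ (show g ∈ V from ⟨hc, hg⟩)
  rintro r hr v ⟨hv, hv'⟩
  have hrz : Commute r z := hz.comm r hr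
  refine ⟨((hrz.mul_left hv).mul_left hrz.inv_left : _), fun x => ?_⟩
  show r (v (r⁻¹ x)) = x ∨ r (v (r⁻¹ x)) = z x
  rcases hv' (r⁻¹ x) with h | h <;> rw [h]
  · exact Or.inl (by simp)
  · right
    have : r (z (r⁻¹ x)) = z (r (r⁻¹ x)) := congrArg (fun p : Perm α => p (r⁻¹ x)) (hz.comm r hr)
    rw [this]; simp

theorem swap_commute (x : α) : swap x (z x) * z = z * swap x (z x) := by
  have := conj_swap z x (z x)
  rw [hz.z_z, swap_comm (z x) x] at this
  rwa [mul_inv_eq_iff_eq_mul, eq_comm] at this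

theorem swap_pair (x y : α) : swap x (z x) y = y ∨ swap x (z x) y = z y := by
  rcases eq_or_ne y x with rfl | h1
  · exact Or.inr (swap_apply_left _ _)
  · rcases eq_or_ne y (z x) with rfl | h2
    · exact Or.inr (by rw [swap_apply_right, hz.z_z])
    · exact Or.inl (swap_apply_of_ne_of_ne h1 h2)

theorem swap_mem (x : α) : swap x (z x) ∈ (R : Subgroup (Perm α)) :=
  hz.mem_of_pairwise (hz.swap_commute x) (hz.swap_pair x)

/-- `c` commuting with `z` and with the transposition of a moved pair preserves the pair. -/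
theorem preserves_of_swap {c : Perm α} (hc : c * z = z * c)
    (hs : ∀ x, c * swap x (z x) = swap x (z x) * c) (x : α) : c x = x ∨ c x = z x := by
  by_cases hx : z x = x
  · refine Or.inl (hz.fix _ _ ?_ hx)
    have h1 : c (z x) = z (c x) := congrArg (fun p : Perm α => p x) hc
    rw [← h1, hx]
  · by_contra h
    push Not at h
    have h1 : c (z x) = swap x (z x) (c x) := by
      have := congrArg (fun p : Perm α => p x) (hs x)
      simpa [mul_apply] using this
    rw [swap_apply_of_ne_of_ne h.1 h.2] at h1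
    exact hx (c.injective h1)

/-- A conjugate of `z` in the centraliser that preserves pairs equals `z`. -/
theorem conj_eq_self {g : Perm α} (hc : (g * z * g⁻¹) * z = z * (g * z * g⁻¹))
    (hg : ∀ x, (g * z * g⁻¹) x = x ∨ (g * z * g⁻¹) x = z x) : g * z = z * g := by
  set c := g * z * g⁻¹ with hcdef
  have hfix : ∀ x y, c x = x → c y = y → x = y := by
    intro x y hx hy
    have e : ∀ w, c w = w → z (g⁻¹ w) = g⁻¹ w := fun w hw => by
      apply g.injective
      simpa [hcdef] using hw
    exact g⁻¹.injective (hz.fix _ _ (e x hx) (e y hy))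
  have : c = z := by
    ext x
    rcases hg x with h | h
    · by_cases hx : z x = x
      · rw [h, hx]
      · exfalso
        apply hx
        apply hfix _ _ ?_ h
        have h1 : c (z x) = z (c x) := congrArg (fun p : Perm α => p x) hc
        rw [h1, h]
    · exact h
  rw [hcdef, mul_inv_eq_iff_eq_mul] at this
  exact this

/-- An element normalising `R` commutes with `z`. -/
theorem commute_of_normalizes {g : Perm α}
    (hg : ∀ r ∈ (R : Subgroup (Perm α)), g⁻¹ * r * g ∈ (R : Subgroup (Perm α))) :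
    g * z = z * g := by
  have key : ∀ r ∈ (R : Subgroup (Perm α)), (g * z * g⁻¹) * r = r * (g * z * g⁻¹) := by
    intro r hr
    have := hz.comm _ (hg r hr)
    calc (g * z * g⁻¹) * r = g * (z * (g⁻¹ * r * g)) * g⁻¹ := by group
      _ = g * ((g⁻¹ * r * g) * z) * g⁻¹ := by rw [this]
      _ = r * (g * z * g⁻¹) := by group
  exact hz.conj_eq_self (key z hz.mem)
    (hz.preserves_of_swap (key z hz.mem) fun x => key _ (hz.swap_mem x))

end IsPairing

end CfsgLib.SylowTwoPerm
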