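import Cfsg.Agent.Lib.Perm.SylowTwoOvergroup

set_option autoImplicit false
set_option linter.unusedSectionVars false

/-!
# Overgroups of Sylow 2-subgroups in degree `2 ^ k + 1`
-/

namespace CfsgLib.SylowTwoPerm

open Equiv Equiv.Perm MulAction

universe u

variable {α : Type u} [Fintype α] [DecidableEq α]

theorem card_orbit_dvd {G : Type*} [Group G] [Finite G] {X : Type*} [MulAction G X] (x : X) :
    Nat.card (orbit G x) ∣ Nat.card G := by
  rw [Nat.card_congr (orbitEquivQuotientStabilizer G x)]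
  exact Subgroup.card_quotient_dvd_card _

/-- An element whose square is a 3-cycle, from two double transpositions meeting in a point. -/
theorem sq_eq_threeCycle {f p p' q r c c' : α}
    (h1 : f ≠ p) (h2 : f ≠ p') (h3 : f ≠ q) (h4 : f ≠ r) (h5 : f ≠ c) (h6 : f ≠ c')
    (h7 : p ≠ p') (h8 : p ≠ q) (h9 : p ≠ r) (h10 : p ≠ c) (h11 : p ≠ c')
    (h12 : p' ≠ q) (h13 : p' ≠ r) (h14 : p' ≠ c) (h15 : p' ≠ c')
    (h16 : q ≠ r) (h17 : q ≠ c) (h18 : q ≠ c') (h19 : r ≠ c) (h20 : r ≠ c') (h21 : c ≠ c') :
    ((swap f p * swap q r) * (swap p p' * swap c c')) ^ 2 = swap f p * swap f p' := by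
  ext x
  rw [pow_two]
  simp only [mul_apply]
  by_cases e1 : x = f
  · subst e1; simp_all [swap_apply_def, eq_comm]
  by_cases e2 : x = p
  · subst e2; simp_all [swap_apply_def, eq_comm]
  by_cases e3 : x = p'
  · subst e3; simp_all [swap_apply_def, eq_comm]
  by_cases e4 : x = q
  · subst e4; simp_all [swap_apply_def, eq_comm]
  by_cases e5 : x = r
  · subst e5; simp_all [swap_apply_def, eq_comm]
  by_cases e6 : x = c
  · subst e6; simp_all [swap_apply_def, eq_comm]
  by_cases e7 : x = c'
  · subst e7; simp_all [swap_apply_def, eq_comm]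
  simp_all [swap_apply_def, eq_comm]

theorem exists_fixed (R : Sylow 2 (Perm α)) {k : ℕ} (hk : 2 ≤ k)
    (hn : Fintype.card α = 2 ^ k + 1) :
    ∃ f : α, (R : Subgroup (Perm α)) ≤ stabilizer (Perm α) f ∧
      ∀ J : Subgroup (Perm α), (R : Subgroup (Perm α)) ⊓ alternatingGroup α ≤ J →
        (∃ g ∈ J ⊓ alternatingGroup α, g f ≠ f) → alternatingGroup α ≤ J := by
  classical
  obtain ⟨z, hz⟩ := exists_pairing R
  have h4 : 4 ≤ 2 ^ k := le_trans (by norm_num) (Nat.pow_le_pow_right (by norm_num : 1 ≤ 2) hk)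
  have heven : 2 ∣ 2 ^ k := dvd_pow_self 2 (by omega)
  rcases hz.fixed_or_even with ⟨f, hf⟩ | ⟨-, h2⟩
  swap
  · exfalso; omega
  refine ⟨f, hz.le_stabilizer hf, fun J hJ hg => ?_⟩
  obtain ⟨g, ⟨hgJ, hgA⟩, hgf⟩ := hg
  have hmov : ∀ x, x ≠ f → z x ≠ x := fun x hx h => hx (hz.fix _ _ h hf)
  have hzf : ∀ x, x ≠ f → z x ≠ f := fun x hx h => hx (z.injective (h.trans hf.symm))
  -- the even part of `R` is transitive off `f`
  have htr : ∀ x y, x ≠ f → y ≠ f →
      ∃ r ∈ (R : Subgroup (Perm α)) ⊓ alternatingGroup α, r x = y := by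
    intro x y hx hy
    obtain ⟨r, hr, rfl⟩ := transitive_of_two_pow k α (Or.inr ⟨by omega, hn⟩) R z hz x y
      (hmov x hx) (hmov y hy)
    rcases Int.units_eq_one_or (sign r) with h | h
    · exact ⟨r, ⟨hr, mem_alternatingGroup.mpr h⟩, rfl⟩
    · obtain ⟨w, hw⟩ := exists_notMem_list [f, x, z x] (by simp; omega)
      simp only [List.mem_cons, List.not_mem_nil, or_false, not_or] at hw
      refine ⟨r * swap w (z w), ⟨mul_mem hr (hz.swap_mem w), ?_⟩, ?_⟩
      · show r * swap w (z w) ∈ alternatingGroup α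
        rw [mem_alternatingGroup, Equiv.Perm.sign_mul, h, sign_swap (Ne.symm (hmov w hw.1))]
        decide
      · rw [mul_apply, swap_apply_of_ne_of_ne (Ne.symm hw.2.1)
          (fun e => hw.2.2 (by rw [e, hz.z_z]))]
  have htrJ : ∀ y, ∃ h ∈ J ⊓ alternatingGroup α, h f = y := by
    intro y
    rcases eq_or_ne y f with rfl | hy
    · exact ⟨1, one_mem _, rfl⟩
    · obtain ⟨r, hr, hry⟩ := htr (g f) y hgf hy
      exact ⟨r * g, mul_mem (show r ∈ J ⊓ alternatingGroup α from ⟨hJ hr, hr.2⟩) ⟨hgJ, hgA⟩,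
        by rw [mul_apply, hry]⟩
  rcases Nat.lt_or_ge k 3 with hk2 | hk3
  · -- degree five
    obtain rfl : k = 2 := by omega
    norm_num at hn
    let H : Subgroup (Perm α) := J ⊓ alternatingGroup α
    have hd5 : 5 ∣ Nat.card H := by
      have e : Nat.card (orbit H f) = 5 := by
        rw [← hn, ← Nat.card_eq_fintype_card]
        exact Nat.card_congr (Equiv.subtypeUnivEquiv fun y => by
          obtain ⟨h, hh, rfl⟩ := htrJ y
          exact ⟨⟨h, hh⟩, rfl⟩)
      exact e ▸ card_orbit_dvd f
    have hd4 : 4 ∣ Nat.card H := by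
      obtain ⟨x, hx⟩ := exists_notMem_list [f] (by simp; omega)
      simp only [List.mem_cons, List.not_mem_nil, or_false] at hx
      have horb : orbit ↥((R : Subgroup (Perm α)) ⊓ alternatingGroup α) x = {y | y ≠ f} := by
        ext y
        constructor
        · rintro ⟨s, rfl⟩ h
          exact hx (s.1.injective (h.trans (hz.le_stabilizer hf s.2.1).symm))
        · intro hy
          obtain ⟨s, hs, rfl⟩ := htr x y hx hy
          exact ⟨⟨s, hs⟩, rfl⟩
      have e := card_orbit_dvd (G := ↥((R : Subgroup (Perm α)) ⊓ alternatingGroup α)) x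
      rw [horb, Nat.card_eq_fintype_card] at e
      simp only [Set.coe_ofPred, ne_eq, Fintype.card_subtype_compl, Fintype.card_subtype_eq] at e
      rw [hn] at e
      exact e.trans (Subgroup.card_dvd_of_le (fun r hr => ⟨hJ hr, hr.2⟩))
    have : Nontrivial α := Fintype.one_lt_card_iff_nontrivial.mp (by omega)
    have hA : Nat.card (alternatingGroup α) = 60 := by
      have h := two_mul_nat_card_alternatingGroup (α := α)
      rw [Nat.card_perm, Nat.card_eq_fintype_card (α := α), hn] at h
      have : Nat.factorial 5 = 120 := by decide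
      omega
    let H' : Subgroup (alternatingGroup α) := H.subgroupOf (alternatingGroup α)
    have hH' : Nat.card H' = Nat.card H :=
      Nat.card_congr (Subgroup.subgroupOfEquivOfLe inf_le_right).toEquiv
    have hidx := H'.index_mul_card
    rw [hH', hA] at hidx
    have h20 : 20 ∣ Nat.card H := Nat.Coprime.mul_dvd_of_dvd_of_dvd (by norm_num) hd4 hd5
    have hle : H'.index ≤ 3 := by
      obtain ⟨c, hc⟩ := h20
      rw [hc] at hidx
      have hc0 : 0 < c := by
        rcases Nat.eq_zero_or_pos c with rfl | h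
        · simp at hidx
        · exact h
      nlinarith
    have hsimple := alternatingGroup.isSimpleGroup (α := α) (by rw [Nat.card_eq_fintype_card]; omega)
    have hker : (MulAction.toPermHom (alternatingGroup α) (alternatingGroup α ⧸ H')).ker = ⊤ := by
      rcases (MonoidHom.normal_ker (MulAction.toPermHom (alternatingGroup α)
        (alternatingGroup α ⧸ H'))).eq_bot_or_eq_top with h | h
      · exfalso
        have h1 := Nat.card_le_card_of_injective _ ((MonoidHom.ker_eq_bot_iff _).mp h)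
        rw [hA, Nat.card_perm] at h1
        have h2 : (Nat.card (alternatingGroup α ⧸ H')).factorial ≤ Nat.factorial 3 :=
          Nat.factorial_le hle
        have h3 : Nat.factorial 3 = 6 := rfl
        omega
      · exact h
    have htop : H' = ⊤ := top_le_iff.mp (hker ▸ (Subgroup.normalCore_eq_ker H') ▸ H'.normalCore_le)
    intro a ha
    have : (⟨a, ha⟩ : alternatingGroup α) ∈ H' := htop ▸ Subgroup.mem_top _
    exact (Subgroup.mem_subgroupOf.mp this).1
  · -- degree at least nine
    have h8 : 8 ≤ 2 ^ k := le_trans (by norm_num) (Nat.pow_le_pow_right (by norm_num : 1 ≤ 2) hk3)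
    set a := g⁻¹ f with hadef
    have haf : a ≠ f := fun h => hgf (by
      rw [hadef, inv_eq_iff_eq] at h
      exact h.symm)
    have hga : g a = f := by simp [a]
    set p := g (z a) with hpdef
    have hpf : p ≠ f := fun h => hmov a haf (g.injective (h.trans hga.symm))
    obtain ⟨b, hb⟩ := exists_notMem_list [f, a, z a, g⁻¹ (z p), z (g⁻¹ (z p))] (by simp; omega)
    simp only [List.mem_cons, List.not_mem_nil, or_false, not_or] at hb
    obtain ⟨hbf, hba, hbza, hb1, hb2⟩ := hb
    set q := g b with hqdef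
    set r := g (z b) with hrdef
    have hqf : q ≠ f := fun h => hba (g.injective (h.trans hga.symm))
    have hrf : r ≠ f := fun h => hbza (by
      have := g.injective (h.trans hga.symm)
      rw [← this, hz.z_z])
    have hqp : q ≠ p := fun h => hbza (g.injective h)
    have hrp : r ≠ p := fun h => hba (z.injective (g.injective h))
    have hqr : q ≠ r := fun h => hmov b hbf (g.injective h).symm
    have hqzp : q ≠ z p := fun h => hb1 (by rw [← h]; simp [q])
    have hrzp : r ≠ z p := fun h => hb2 (by rw [← h]; simp [r, hz.z_z])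
    obtain ⟨c, hc⟩ := exists_notMem_list [f, p, z p, q, z q, r, z r] (by simp; omega)
    simp only [List.mem_cons, List.not_mem_nil, or_false, not_or] at hc
    obtain ⟨hcf, hcp, hczp, hcq, hczq, hcr, hczr⟩ := hc
    have ht : swap p (z p) * swap c (z c) ∈ J :=
      hJ (hz.doubleSwap_mem (hmov p hpf) (hmov c hcf))
    have hu : swap f p * swap q r ∈ J := by
      have h1 := mul_mem (mul_mem hgJ (hJ (hz.doubleSwap_mem (hmov a haf) (hmov b hbf))))
        (J.inv_mem hgJ)
      have e : g * (swap a (z a) * swap b (z b)) * g⁻¹ =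
          (g * swap a (z a) * g⁻¹) * (g * swap b (z b) * g⁻¹) := by group
      rw [e, conj_swap, conj_swap, hga] at h1
      exact h1
    have h3 : swap f p * swap f (z p) ∈ J := by
      rw [← sq_eq_threeCycle (Ne.symm hpf) (Ne.symm (hzf p hpf)) (Ne.symm hqf) (Ne.symm hrf)
        (Ne.symm hcf) (Ne.symm (hzf c hcf)) (hmov p hpf).symm (Ne.symm hqp) (Ne.symm hrp)
        (Ne.symm hcp) (fun e => hczp (by rw [e, hz.z_z]))
        (Ne.symm hqzp) (Ne.symm hrzp) (Ne.symm hczp) (fun e => hcp (z.injective e).symm)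
        hqr (Ne.symm hcq) (fun e => hczq (by rw [e, hz.z_z])) (Ne.symm hcr)
        (fun e => hczr (by rw [e, hz.z_z])) (hmov c hcf).symm]
      exact J.pow_mem (J.mul_mem hu ht) 2
    refine alt_le J (by omega) f f (fun y => ?_) (fun x y hx _ hy _ => ?_) _ h3
      (isThreeCycle_swap_mul_swap_same (Ne.symm hpf) (Ne.symm (hzf p hpf)) (hmov p hpf).symm)
      (Or.inl rfl)
    · obtain ⟨h, hh, e⟩ := htrJ y
      exact ⟨h, hh.1, e⟩
    · obtain ⟨s, hs, e⟩ := htr x y hx hy
      exact ⟨s, hJ hs, hz.le_stabilizer hf hs.1, e⟩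

/-- The even part of a Sylow 2-subgroup containing a given one. -/
theorem exists_sylow_perm (S : Sylow 2 ↥(alternatingGroup α)) :
    ∃ P : Sylow 2 (Perm α), (S : Subgroup ↥(alternatingGroup α)).map (alternatingGroup α).subtype =
      (P : Subgroup (Perm α)) ⊓ alternatingGroup α := by
  obtain ⟨P, hP⟩ := (S.isPGroup'.map (alternatingGroup α).subtype).exists_le_sylow
  refine ⟨P, le_antisymm (le_inf hP (Subgroup.map_subtype_le _)) ?_⟩
  have h : (P : Subgroup (Perm α)).subgroupOf (alternatingGroup α) =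
      (S : Subgroup ↥(alternatingGroup α)) :=
    S.is_maximal' (P.isPGroup'.comap_of_injective _ (Subgroup.subtype_injective _))
      (fun x hx => hP ⟨x, hx, rfl⟩)
  rw [← h]
  rintro x ⟨hxP, hxA⟩
  exact ⟨⟨x, hxA⟩, hxP, rfl⟩

/-- Sylow 2-subgroups of alternating groups of degree at least 6 are self-normalising. -/
theorem mem_of_normalizes_alternating (h6 : 6 ≤ Fintype.card α)
    (S : Sylow 2 ↥(alternatingGroup α)) {g : ↥(alternatingGroup α)}
    (hg : g ∈ Subgroup.normalizer ((S : Subgroup ↥(alternatingGroup α)) : Set ↥(alternatingGroup α))) :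
    g ∈ (S : Subgroup ↥(alternatingGroup α)) := by
  obtain ⟨P, hP⟩ := exists_sylow_perm S
  obtain ⟨a, m, hm, hord⟩ := Nat.exists_eq_two_pow_mul_odd (n := orderOf g) (orderOf_pos g).ne'
  have hw : g ^ (2 ^ a) = 1 := by
    apply Subtype.ext
    apply eq_one_of_odd_of_normalizes_alt h6 P
    · rw [Subgroup.orderOf_coe, orderOf_pow, hord, Nat.gcd_mul_right_left,
        Nat.mul_div_cancel_left _ (Nat.two_pow_pos a)]
      exact hm
    · intro r hr
      rw [← hP] at hr
      obtain ⟨s, hs, rfl⟩ := hr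
      have hn := Subgroup.inv_mem _ (Subgroup.pow_mem _ hg (2 ^ a))
      have h1 := (Subgroup.mem_normalizer_iff.mp hn s).mp hs
      rw [inv_inv] at h1
      have h2 : (alternatingGroup α).subtype ((g ^ 2 ^ a)⁻¹ * s * g ^ 2 ^ a) ∈
          (P : Subgroup (Perm α)) ⊓ alternatingGroup α := hP ▸ ⟨_, h1, rfl⟩
      exact h2.1
  have hz : IsPGroup 2 (Subgroup.zpowers g) := by
    intro ⟨x, hx⟩
    obtain ⟨i, rfl⟩ := hx
    exact ⟨a, Subtype.ext (by
      show (g ^ i) ^ (2 ^ a) = 1
      rw [← zpow_natCast, ← zpow_mul, mul_comm, zpow_mul, zpow_natCast, hw, one_zpow])⟩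
  have := S.is_maximal' (hz.to_sup_of_normal_right' S.isPGroup'
    (Subgroup.zpowers_le.mpr hg)) le_sup_right
  exact le_of_le_of_eq le_sup_left this (Subgroup.mem_zpowers g)

end CfsgLib.SylowTwoPerm
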