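import Cfsg.Agent.Lib.Perm.SylowTwoPairs

set_option autoImplicit false
set_option linter.unusedSectionVars false

/-!
# Overgroups and normalisers of Sylow 2-subgroups of symmetric and alternating groups
-/

namespace CfsgLib.SylowTwoPerm

open Equiv Equiv.Perm MulAction
open scoped Pointwise

universe u

variable {α : Type u} [Fintype α] [DecidableEq α]

theorem exists_notMem_list (l : List α) (h : l.length < Fintype.card α) : ∃ x, x ∉ l := by
  by_contra hc
  push Not at hc
  have : (Finset.univ : Finset α) ⊆ l.toFinset := fun x _ => List.mem_toFinset.mpr (hc x)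
  have := (Finset.card_le_card this).trans l.toFinset_card_le
  rw [Finset.card_univ] at this
  omega

/-- Jordan's criterion in the form used here. -/
theorem alt_le (J : Subgroup (Perm α)) (h3 : 3 ≤ Fintype.card α) (a a' : α)
    (htr : ∀ x, ∃ g ∈ J, g a = x)
    (hfix : ∀ x y, x ≠ a → x ≠ a' → y ≠ a → y ≠ a' → ∃ g ∈ J, g a = a ∧ g x = y)
    (c : Perm α) (hc : c ∈ J) (hc3 : c.IsThreeCycle) (haa : a' = a ∨ (c a ≠ a ∧ c a' = a')) :
    alternatingGroup α ≤ J := by
  have : IsPretransitive J α := ⟨fun x y => by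
    obtain ⟨g, hg, rfl⟩ := htr x
    obtain ⟨g', hg', rfl⟩ := htr y
    exact ⟨⟨g' * g⁻¹, J.mul_mem hg' (J.inv_mem hg)⟩, by simp [Subgroup.smul_def]⟩⟩
  refine alternatingGroup_le_of_isPreprimitive_of_isThreeCycle_mem ?_ hc3 hc
  apply IsPreprimitive.of_isTrivialBlock_base a
  intro B haB hB
  -- an element of `J` sending some point of `B` into `B` preserves `B`
  have key : ∀ g ∈ J, ∀ b ∈ B, g b ∈ B → ∀ y ∈ B, g y ∈ B := by
    intro g hg b hb hgb y hy
    by_contra hgy
    have hne : (⟨g, hg⟩ : J) • B ≠ (1 : J) • B := by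
      rw [one_smul]
      intro heq
      apply hgy
      rw [← heq]
      exact Set.smul_mem_smul_set hy
    have hd := hB hne
    rw [one_smul] at hd
    exact Set.disjoint_left.mp hd (Set.smul_mem_smul_set hb) hgb
  by_cases hall : ∃ b ∈ B, b ≠ a ∧ b ≠ a'
  · obtain ⟨b, hb, hba, hba'⟩ := hall
    have hbig : ∀ y, y ≠ a' → y ∈ B := by
      intro y hy
      by_cases hya : y = a
      · exact hya ▸ haB
      · obtain ⟨g, hg, hga, hgb⟩ := hfix b y hba hba' hya hy
        exact hgb ▸ key g hg a haB (hga.symm ▸ haB) b hb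
    refine Or.inr (Set.eq_univ_of_forall fun y => ?_)
    rcases eq_or_ne y a' with rfl | hy
    swap; · exact hbig y hy
    by_contra hyB
    -- move `a` to the missing point
    obtain ⟨g, hg, hga⟩ := htr y
    obtain ⟨w, hw⟩ := exists_notMem_list [y, g⁻¹ y] (by simp; omega)
    simp only [List.mem_cons, List.not_mem_nil, or_false, not_or] at hw
    have hgw : g w ≠ y := fun h => hw.2 (by simp [← h])
    exact hyB (hga ▸ key g hg w (hbig w hw.1) (hbig _ hgw) a haB)
  · push Not at hall
    rcases haa with rfl | ⟨hca, hca'⟩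
    · refine Or.inl fun x hx y hy => ?_
      rcases eq_or_ne x a' with rfl | hx'
      · rcases eq_or_ne y x with rfl | hy'
        · rfl
        · exact absurd (hall y hy hy') hy'
      · exact absurd (hall x hx hx') hx'
    by_cases ha'B : a' ∈ B
    · exfalso
      have h1 := key c hc a' ha'B (hca'.symm ▸ ha'B) a haB
      have h2 := hall _ h1 hca
      exact hca (by rw [c.injective (h2.trans hca'.symm), hca'] )
    · refine Or.inl fun x hx y hy => ?_
      have e : ∀ x ∈ B, x = a := fun x hx => by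
        by_contra hxa
        exact ha'B (hall x hx hxa ▸ hx)
      rw [e x hx, e y hy]

theorem threeCycle_mk {a b v : α} (hab : a ≠ b) (hav : a ≠ v) (hbv : b ≠ v) :
    ∃ c : Perm α, c.IsThreeCycle ∧ c ∈ alternatingGroup α ∧ c a = b ∧ c b = v ∧ c v = a ∧
      ∀ y, y ≠ a → y ≠ b → y ≠ v → c y = y := by
  refine ⟨swap a v * swap a b, isThreeCycle_swap_mul_swap_same hav hab hbv.symm,
    (isThreeCycle_swap_mul_swap_same hav hab hbv.symm).mem_alternatingGroup,
    ?_, ?_, ?_, fun y h1 h2 h3 => ?_⟩
  · rw [mul_apply, swap_apply_left, swap_apply_of_ne_of_ne hab.symm hbv]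
  · rw [mul_apply, swap_apply_right, swap_apply_left]
  · rw [mul_apply, swap_apply_of_ne_of_ne hav.symm hbv.symm, swap_apply_right]
  · rw [mul_apply, swap_apply_of_ne_of_ne h1 h2, swap_apply_of_ne_of_ne h1 h3]

/-- The stabiliser of a relation. -/
def relStab (E : α → α → Prop) : Subgroup (Perm α) where
  carrier := {g | ∀ x y, E (g x) (g y) ↔ E x y}
  one_mem' := fun _ _ => Iff.rfl
  mul_mem' := fun {g h} hg hh x y => (hg (h x) (h y)).trans (hh x y)
  inv_mem' := fun {g} hg x y => by
    have := hg (g⁻¹ x) (g⁻¹ y)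
    simpa using this.symm

theorem not_alt_le_relStab (E : α → α → Prop) (h : 4 ≤ Fintype.card α) {a b w : α}
    (hab : E a b) (haw : ¬ E a w) (hab' : a ≠ b) (haw' : a ≠ w) (hbw : b ≠ w) :
    ¬ alternatingGroup α ≤ relStab E := by
  obtain ⟨v, hv⟩ := exists_notMem_list [a, b, w] (by simp; omega)
  simp only [List.mem_cons, List.not_mem_nil, or_false, not_or] at hv
  obtain ⟨c, -, hcA, hcb, -, -, hcfix⟩ := threeCycle_mk hbw (Ne.symm hv.2.1) (Ne.symm hv.2.2)
  intro hle
  have := (hle hcA a b).mpr hab
  rw [hcb, hcfix a hab' haw' (Ne.symm hv.1)] at this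
  exact haw this

variable {R : Sylow 2 (Perm α)}

namespace IsPairing

variable {z : Perm α} (hz : IsPairing R z)
include hz

theorem moved_z {x : α} (hx : z x ≠ x) : z (z x) ≠ z x := fun h => hx (z.injective h)

theorem doubleSwap_mem {x w : α} (hx : z x ≠ x) (hw : z w ≠ w) :
    swap x (z x) * swap w (z w) ∈ (R : Subgroup (Perm α)) ⊓ alternatingGroup α := by
  refine ⟨mul_mem (hz.swap_mem x) (hz.swap_mem w), ?_⟩
  show swap x (z x) * swap w (z w) ∈ alternatingGroup α
  rw [mem_alternatingGroup, Equiv.Perm.sign_mul, sign_swap (Ne.symm hx), sign_swap (Ne.symm hw)]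
  decide

theorem six_le (h : 6 ≤ Fintype.card α) {x : α} (hx : z x ≠ x) :
    ∃ w w', z w ≠ w ∧ z w' ≠ w' ∧ w ≠ x ∧ w ≠ z x ∧ w' ≠ x ∧ w' ≠ z x ∧ w' ≠ w ∧ w' ≠ z w := by
  obtain ⟨e, he, hcard⟩ := hz.card_eq
  classical
  have hmoved := hz.card_moved
  rw [Nat.card_eq_fintype_card, Fintype.card_subtype] at hmoved
  set S := Finset.univ.filter (fun y => z y ≠ y) with hS
  have h6 : 6 ≤ S.card := by omega
  obtain ⟨w, hw, hw'⟩ := Finset.exists_mem_notMem_of_card_lt_card
    (show ({x, z x} : Finset α).card < S.card by have := Finset.card_le_two (a := x) (b := z x); omega)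
  obtain ⟨v, hv, hv'⟩ := Finset.exists_mem_notMem_of_card_lt_card
    (show ({x, z x, w, z w} : Finset α).card < S.card by
      have := Finset.card_le_four (a := x) (b := z x) (c := w) (d := z w); omega)
  simp only [hS, Finset.mem_filter, Finset.mem_univ, true_and] at hw hv
  simp only [Finset.mem_insert, Finset.mem_singleton, not_or] at hw' hv'
  exact ⟨w, v, hw, hv, hw'.1, hw'.2, hv'.1, hv'.2.1, hv'.2.2.1, hv'.2.2.2⟩

/-- An element normalising the even part of `R` commutes with `z`. -/
theorem commute_of_normalizes_alt (h6 : 6 ≤ Fintype.card α) {g : Perm α}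
    (hg : ∀ r ∈ (R : Subgroup (Perm α)) ⊓ alternatingGroup α,
      g⁻¹ * r * g ∈ (R : Subgroup (Perm α))) :
    g * z = z * g := by
  have key : ∀ r ∈ (R : Subgroup (Perm α)) ⊓ alternatingGroup α,
      (g * z * g⁻¹) * r = r * (g * z * g⁻¹) := by
    intro r hr
    have := hz.comm _ (hg r hr)
    calc (g * z * g⁻¹) * r = g * (z * (g⁻¹ * r * g)) * g⁻¹ := by group
      _ = g * ((g⁻¹ * r * g) * z) * g⁻¹ := by rw [this]
      _ = r * (g * z * g⁻¹) := by group
  set c := g * z * g⁻¹ with hcdef
  have hmov : ∀ x, z x ≠ x → c x = x ∨ c x = z x := by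
    intro x hx
    obtain ⟨w, w', hw, hw', h1, h2, h3, h4, h5, h5'⟩ := hz.six_le h6 hx
    have aux : ∀ v, z v ≠ v → v ≠ x → v ≠ z x →
        c x = x ∨ c x = z x ∨ c x = v ∨ c x = z v := by
      intro v hv hv1 hv2
      by_contra hne
      push Not at hne
      have hzv1 : x ≠ z v := fun h => hv2 (by rw [h, hz.z_z])
      have h := congrArg (fun p : Perm α => p x) (key _ (hz.doubleSwap_mem hx hv))
      simp only [mul_apply] at h
      rw [swap_apply_of_ne_of_ne hv1.symm hzv1, swap_apply_left,
        swap_apply_of_ne_of_ne hne.2.2.1 hne.2.2.2, swap_apply_of_ne_of_ne hne.1 hne.2.1] at h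
      exact hx (c.injective h)
    rcases aux w hw h1 h2 with h | h | h | h
    · exact Or.inl h
    · exact Or.inr h
    all_goals rcases aux w' hw' h3 h4 with h' | h' | h' | h'
    all_goals first
      | exact Or.inl h'
      | exact Or.inr h'
      | exact absurd (h'.symm.trans h) h5
      | exact absurd (h'.symm.trans h) h5'
      | exact absurd (z.injective (h'.symm.trans h)) h5
      | exact absurd (by rw [← h, h', hz.z_z] : w' = z w) h5'
  have hall : ∀ x, c x = x ∨ c x = z x := by
    intro x
    by_cases hx : z x = x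
    · left
      by_contra hne
      have hy : z (c x) ≠ c x := fun h => hne (hz.fix _ _ h hx)
      rcases hmov _ hy with h | h
      · exact hne (c.injective h)
      · rcases hmov _ (hz.moved_z hy) with h' | h'
        · exact hy (c.injective (h'.trans h.symm))
        · rw [hz.z_z] at h'
          exact hne (z.injective ((c.injective h').trans hx.symm))
    · exact hmov x hx
  refine hz.conj_eq_self (Equiv.ext fun x => ?_) hall
  show c (z x) = z (c x)
  rcases hall x with h | h <;> rw [h]
  · rcases hall (z x) with h' | h'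
    · exact h'
    · rw [hz.z_z] at h'
      have : z x = x := c.injective (h'.trans h.symm)
      rw [h', this]
  · rw [hz.z_z]
    rcases hall (z x) with h' | h'
    · have : z x = x := c.injective (h'.trans h.symm)
      rw [h', this]
    · rw [h', hz.z_z]

end IsPairing

/-- An element of odd order normalising the even part of a Sylow 2-subgroup of a symmetric group
of degree at least 6 is trivial. -/
theorem eq_one_of_odd_of_normalizes_alt (h6 : 6 ≤ Fintype.card α) (R : Sylow 2 (Perm α))
    (g : Perm α) (hodd : Odd (orderOf g))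
    (hg : ∀ r ∈ (R : Subgroup (Perm α)) ⊓ alternatingGroup α,
      g⁻¹ * r * g ∈ (R : Subgroup (Perm α))) : g = 1 := by
  obtain ⟨z, hz⟩ := exists_pairing R
  refine eq_one_of_odd_of_normalizes _ α rfl R g hodd fun r hr => ?_
  have hgz : g⁻¹ * z = z * g⁻¹ := (Commute.inv_left (hz.commute_of_normalizes_alt h6 hg) : _)
  rcases Int.units_eq_one_or (sign r) with h | h
  · exact hg r ⟨hr, mem_alternatingGroup.mpr h⟩
  · obtain ⟨x, hx⟩ : ∃ x, z x ≠ x := by
      by_contra hc
      push Not at hc
      obtain ⟨a, ha⟩ := exists_notMem_list ([] : List α) (by simp; omega)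
      obtain ⟨b, hb⟩ := exists_notMem_list [a] (by simp; omega)
      simp only [List.mem_cons, List.not_mem_nil, or_false] at hb
      exact hb (hz.fix _ _ (hc b) (hc a))
    have hs : g⁻¹ * swap x (z x) * g ∈ (R : Subgroup (Perm α)) := by
      have := conj_swap g⁻¹ x (z x)
      rw [inv_inv] at this
      rw [this, show g⁻¹ (z x) = z (g⁻¹ x) from congrArg (fun p : Perm α => p x) hgz]
      exact hz.swap_mem _
    have hrs := hg (r * swap x (z x)) ⟨mul_mem hr (hz.swap_mem x),
      mem_alternatingGroup.mpr (by rw [Equiv.Perm.sign_mul, h, sign_swap (Ne.symm hx)]; decide)⟩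
    have := mul_mem hrs (inv_mem hs)
    simpa [mul_assoc] using this

namespace IsPairing

variable {z : Perm α} (hz : IsPairing R z)
include hz

theorem fixed_or_even : (∃ f, z f = f) ∨ ((∀ x, z x ≠ x) ∧ 2 ∣ Fintype.card α) := by
  classical
  by_cases h : ∃ f, z f = f
  · exact Or.inl h
  · push Not at h
    refine Or.inr ⟨h, ?_⟩
    have := hz.card_moved
    rw [Nat.card_congr (Equiv.subtypeUnivEquiv h), Nat.card_eq_fintype_card] at this
    exact ⟨_, this⟩

theorem le_stabilizer {f : α} (hf : z f = f) :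
    (R : Subgroup (Perm α)) ≤ stabilizer (Perm α) f := fun r hr => by
  refine hz.fix _ _ ?_ hf
  have : r (z f) = z (r f) := congrArg (fun p : Perm α => p f) (hz.comm r hr)
  show z (r f) = r f
  rw [← this, hf]

end IsPairing

/-- Two overgroups generating the alternating group. -/
theorem exists_two (R : Sylow 2 (Perm α)) (h5 : 5 ≤ Fintype.card α)
    (hne : ∀ k, 2 ≤ k → Fintype.card α ≠ 2 ^ k + 1) :
    ∃ M₁ M₂ : Subgroup (Perm α), (R : Subgroup (Perm α)) ≤ M₁ ∧ (R : Subgroup (Perm α)) ≤ M₂ ∧
      ¬ alternatingGroup α ≤ M₁ ∧ ¬ alternatingGroup α ≤ M₂ ∧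
      ∀ J : Subgroup (Perm α), M₁ ⊓ alternatingGroup α ≤ J → M₂ ⊓ alternatingGroup α ≤ J →
        alternatingGroup α ≤ J := by
  classical
  obtain ⟨z, hz⟩ := exists_pairing R
  rcases hz.fixed_or_even with ⟨f, hf⟩ | ⟨hfpf, heven⟩
  · -- odd degree
    obtain ⟨x, hx⟩ := exists_notMem_list [f] (by simp; omega)
    simp only [List.mem_cons, List.not_mem_nil, or_false] at hx
    have hxm : z x ≠ x := fun h => hx (hz.fix _ _ h hf)
    obtain ⟨w, hwm, hw⟩ : ∃ w, z w ≠ w ∧ ¬ ∃ s ∈ (R : Subgroup (Perm α)), s x = w := by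
      by_contra hcon
      push Not at hcon
      obtain ⟨i, hi⟩ := R.isPGroup'.card_orbit x
      have horb : orbit (R : Subgroup (Perm α)) x = {y | y ≠ f} := by
        ext y
        constructor
        · rintro ⟨s, rfl⟩ h
          exact hx (s.1.injective (h.trans (hz.le_stabilizer hf s.2).symm))
        · intro hy
          obtain ⟨s, hs, rfl⟩ := hcon y (fun h => hy (hz.fix _ _ h hf))
          exact ⟨⟨s, hs⟩, rfl⟩
      rw [horb, Nat.card_eq_fintype_card] at hi
      simp only [Set.coe_ofPred, ne_eq, Fintype.card_subtype_compl,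
        Fintype.card_subtype_eq] at hi
      refine hne i ?_ (by omega)
      by_contra h2
      interval_cases i <;> simp at hi <;> omega
    let E : α → α → Prop := fun a b =>
      (∃ s ∈ (R : Subgroup (Perm α)), s x = a) ↔ (∃ s ∈ (R : Subgroup (Perm α)), s x = b)
    have hfT : ¬ ∃ s ∈ (R : Subgroup (Perm α)), s x = f := fun ⟨s, hs, h⟩ =>
      hx (s.injective (h.trans (hz.le_stabilizer hf hs).symm))
    have hRE : ∀ r ∈ (R : Subgroup (Perm α)), ∀ a,
        (∃ s ∈ (R : Subgroup (Perm α)), s x = r a) ↔ ∃ s ∈ (R : Subgroup (Perm α)), s x = a := by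
      intro r hr a
      constructor
      · rintro ⟨s, hs, h⟩
        exact ⟨r⁻¹ * s, mul_mem (inv_mem hr) hs, by simp [h]⟩
      · rintro ⟨s, hs, h⟩
        exact ⟨r * s, mul_mem hr hs, by simp [h]⟩
    have hzw : ¬ ∃ s ∈ (R : Subgroup (Perm α)), s x = z w := fun h => hw ((hRE z hz.mem w).mp h)
    have hfw : f ≠ w := fun h => hwm (h ▸ hf)
    have hfzw : f ≠ z w := fun h => hfw (z.injective (hf.trans h))
    refine ⟨stabilizer (Perm α) f, relStab E, hz.le_stabilizer hf,
      fun r hr a b => iff_congr (hRE r hr a) (hRE r hr b), ?_, ?_, ?_⟩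
    · obtain ⟨v, hv⟩ := exists_notMem_list [f, x] (by simp; omega)
      simp only [List.mem_cons, List.not_mem_nil, or_false, not_or] at hv
      obtain ⟨c, -, hcA, hcf, -⟩ := threeCycle_mk (Ne.symm hx) (Ne.symm hv.1) (Ne.symm hv.2)
      intro hle
      have : c f = f := hle hcA
      exact hx (hcf.symm.trans this)
    · apply not_alt_le_relStab E (by omega) (a := x) (b := z x) (w := w)
      · exact iff_of_true ⟨1, one_mem _, rfl⟩ ⟨z, hz.mem, rfl⟩
      · exact fun h => hw (h.mp ⟨1, one_mem _, rfl⟩)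
      · exact hxm.symm
      · exact fun h => hw ⟨1, one_mem _, h⟩
      · exact fun h => hw ⟨z, hz.mem, h⟩
    intro J hJ1 hJ2
    obtain ⟨c, hc3, hcA, hcf, hcw, hcz, hcfix⟩ := threeCycle_mk hfw hfzw hwm.symm
    have hcE : ∀ a, (∃ s ∈ (R : Subgroup (Perm α)), s x = c a) ↔
        ∃ s ∈ (R : Subgroup (Perm α)), s x = a := by
      intro a
      rcases eq_or_ne a f with rfl | h1
      · rw [hcf]; exact iff_of_false hw hfT
      rcases eq_or_ne a w with rfl | h2
      · rw [hcw]; exact iff_of_false hzw hw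
      rcases eq_or_ne a (z w) with rfl | h3
      · rw [hcz]; exact iff_of_false hfT hzw
      rw [hcfix a h1 h2 h3]
    have hcJ : c ∈ J := hJ2 ⟨fun a b => iff_congr (hcE a) (hcE b), hcA⟩
    have hmove : ∀ a b, a ≠ f → b ≠ f → ∃ g ∈ J, g f = f ∧ g a = b := by
      intro a b ha hb
      rcases eq_or_ne a b with rfl | hab
      · exact ⟨1, J.one_mem, rfl, rfl⟩
      obtain ⟨v, hv⟩ := exists_notMem_list [f, a, b] (by simp; omega)
      simp only [List.mem_cons, List.not_mem_nil, or_false, not_or] at hv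
      obtain ⟨d, -, hdA, hda, -, -, hdfix⟩ := threeCycle_mk hab (Ne.symm hv.2.1) (Ne.symm hv.2.2)
      have hdf := hdfix f ha.symm hb.symm (Ne.symm hv.1)
      exact ⟨d, hJ1 ⟨hdf, hdA⟩, hdf, hda⟩
    refine alt_le J (by omega) f f (fun y => ?_) (fun a b ha _ hb _ => hmove a b ha hb) c hcJ hc3
      (Or.inl rfl)
    rcases eq_or_ne y f with rfl | hy
    · exact ⟨1, J.one_mem, rfl⟩
    · obtain ⟨g, hg, -, hgw⟩ := hmove w y hfw.symm hy
      exact ⟨g * c, J.mul_mem hg hcJ, by simp [hcf, hgw]⟩
  · -- even degree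
    obtain ⟨M₂, hRM₂, hM₂, c, hc3, hcA, hcM⟩ : ∃ M₂ : Subgroup (Perm α),
        (R : Subgroup (Perm α)) ≤ M₂ ∧ ¬ alternatingGroup α ≤ M₂ ∧
          ∃ c : Perm α, c.IsThreeCycle ∧ c ∈ alternatingGroup α ∧ c ∈ M₂ := by
      -- a normal subgroup of `R`, intransitive, with an orbit of length at least 3
      obtain ⟨K, hKR, hKn, ⟨x₀, y₀, hxy⟩, a, k₁, hk₁, k₂, hk₂, h01, h02, h12⟩ :
          ∃ K : Subgroup (Perm α), K ≤ (R : Subgroup (Perm α)) ∧
            (∀ r ∈ (R : Subgroup (Perm α)), ∀ k ∈ K, r * k * r⁻¹ ∈ K) ∧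
            (∃ x y, ¬ ∃ k ∈ K, k x = y) ∧
            ∃ a, ∃ k₁ ∈ K, ∃ k₂ ∈ K, a ≠ k₁ a ∧ a ≠ k₂ a ∧ k₁ a ≠ k₂ a := by
        by_cases htr : ∀ x y, ∃ s ∈ (R : Subgroup (Perm α)), s x = y
        · obtain ⟨a, -⟩ := exists_notMem_list ([] : List α) (by simp; omega)
          let P : Subgroup (Perm α) := R
          let Pa : Subgroup P := stabilizer P a
          obtain ⟨j, hj⟩ := IsPGroup.iff_card.mp R.isPGroup'
          obtain ⟨i, hi⟩ := IsPGroup.iff_card.mp (R.isPGroup'.to_subgroup Pa)
          have horb : Nat.card (orbit P a) = Fintype.card α := by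
            rw [← Nat.card_eq_fintype_card]
            exact Nat.card_congr (Equiv.subtypeUnivEquiv fun y => by
              obtain ⟨s, hs, rfl⟩ := htr a y
              exact ⟨⟨s, hs⟩, rfl⟩)
          have hmul : Fintype.card α * 2 ^ i = 2 ^ j := by
            rw [← hi, ← hj, ← horb, Nat.card_congr (orbitEquivQuotientStabilizer P a)]
            exact (Subgroup.card_eq_card_quotient_mul_card_subgroup Pa).symm
          have hij : i < j := by
            by_contra hle
            have := Nat.pow_le_pow_right (show 1 ≤ 2 by norm_num) (not_lt.mp hle)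
            nlinarith [Nat.two_pow_pos i]
          obtain ⟨K, hK, hle⟩ := Sylow.exists_subgroup_card_pow_prime_le (G := P) 2 (m := j - 1)
            (by rw [hj]; exact pow_dvd_pow 2 (by omega)) Pa hi (by omega)
          have hKi : K.index = 2 := by
            have h := K.index_mul_card
            rw [hj, hK, show 2 ^ j = 2 * 2 ^ (j - 1) by rw [← pow_succ']; congr 1; omega] at h
            exact Nat.eq_of_mul_eq_mul_right (Nat.two_pow_pos _) h
          have hKnorm := Subgroup.normal_of_index_eq_two hKi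
          refine ⟨K.map P.subtype, Subgroup.map_subtype_le K, ?_, ?_, ?_⟩
          · rintro r hr k ⟨k', hk', rfl⟩
            exact ⟨⟨r, hr⟩ * k' * ⟨r, hr⟩⁻¹, hKnorm.conj_mem _ hk' _, rfl⟩
          · by_contra hcon
            push Not at hcon
            apply (show K ≠ ⊤ from fun h => by simp [h] at hKi)
            rw [Subgroup.eq_top_iff']
            intro r
            obtain ⟨k, ⟨k', hk', rfl⟩, hk⟩ := hcon a (r.1 a)
            have hmem : k'⁻¹ * r ∈ Pa := by
              rw [mem_stabilizer_iff, mul_smul, inv_smul_eq_iff]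
              exact hk.symm
            simpa using K.mul_mem hk' (hle hmem)
          · have hKorb : 3 ≤ Nat.card (orbit K a) := by
              have e : Nat.card (stabilizer K a) = 2 ^ i := by
                rw [← hi]
                exact Nat.card_congr
                  { toFun := fun k => ⟨k.1.1, k.2⟩
                    invFun := fun k => ⟨⟨k.1, hle k.2⟩, k.2⟩
                    left_inv := fun k => rfl
                    right_inv := fun k => rfl }
              have h := Subgroup.card_eq_card_quotient_mul_card_subgroup (stabilizer K a)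
              rw [hK, e, ← Nat.card_congr (orbitEquivQuotientStabilizer K a)] at h
              have h2 : 2 ^ j = 2 * 2 ^ (j - 1) := by rw [← pow_succ']; congr 1; omega
              by_contra hlt
              have : Nat.card (orbit K a) * 2 ^ i ≤ 2 * 2 ^ i := by gcongr; omega
              have := Nat.two_pow_pos i
              nlinarith
            rw [Nat.card_eq_fintype_card] at hKorb
            obtain ⟨p, q, hp, hq, hpq⟩ : ∃ p q : α, p ∈ orbit K a ∧ q ∈ orbit K a ∧
                (p ≠ a ∧ q ≠ a ∧ p ≠ q) := by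
              have h1 : 1 < ((orbit K a).toFinset.erase a).card := by
                rw [Finset.card_erase_of_mem (by simp), Set.toFinset_card]; omega
              obtain ⟨p, hp, q, hq, hpq⟩ := Finset.one_lt_card.mp h1
              simp only [Finset.mem_erase, Set.mem_toFinset] at hp hq
              exact ⟨p, q, hp.2, hq.2, hp.1, hq.1, hpq⟩
            obtain ⟨⟨k1, rfl⟩, ⟨k2, rfl⟩⟩ := And.intro hp hq
            exact ⟨a, k1.1.1, ⟨k1.1, k1.2, rfl⟩, k2.1.1, ⟨k2.1, k2.2, rfl⟩,
              Ne.symm hpq.1, Ne.symm hpq.2.1, hpq.2.2⟩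
        · push Not at htr
          obtain ⟨x, y, hxy⟩ := htr
          obtain ⟨r, hr, a, ha, hra, hrza⟩ := hz.exists_move (by omega)
          refine ⟨R, le_rfl, fun r hr k hk => mul_mem (mul_mem hr hk) (inv_mem hr),
            ⟨x, y, fun ⟨k, hk, h⟩ => hxy k hk h⟩, a, z, hz.mem, r, hr, ha.symm, hra.symm, hrza.symm⟩
      let E : α → α → Prop := fun p q => ∃ k ∈ K, k p = q
      refine ⟨relStab E, ?_, ?_, ?_⟩
      · intro r hr p q
        constructor
        · rintro ⟨k, hk, h⟩
          exact ⟨r⁻¹ * k * r, by simpa using hKn r⁻¹ (inv_mem hr) k hk, by simp [h]⟩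
        · rintro ⟨k, hk, h⟩
          exact ⟨r * k * r⁻¹, hKn r hr k hk, by simp [h]⟩
      · obtain ⟨w, hw⟩ : ∃ w, ¬ E a w := by
          by_contra hcon
          push Not at hcon
          obtain ⟨k, hk, rfl⟩ := hcon x₀
          obtain ⟨k', hk', rfl⟩ := hcon y₀
          exact hxy ⟨k' * k⁻¹, mul_mem hk' (inv_mem hk), by simp⟩
        exact not_alt_le_relStab E (by omega) (b := k₁ a) ⟨k₁, hk₁, rfl⟩ hw h01
          (fun h => hw ⟨1, one_mem _, h⟩) (fun h => hw ⟨k₁, hk₁, h⟩)
      · obtain ⟨c, hc3, hcA, hca, hcb, hcv, hcfix⟩ := threeCycle_mk h01 h02 h12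
        refine ⟨c, hc3, hcA, ?_⟩
        have hcE : ∀ p, ∃ k ∈ K, k p = c p := by
          intro p
          rcases eq_or_ne p a with rfl | h1
          · exact ⟨k₁, hk₁, hca.symm⟩
          rcases eq_or_ne p (k₁ a) with rfl | h2
          · exact ⟨k₂ * k₁⁻¹, mul_mem hk₂ (inv_mem hk₁), by simp [hcb]⟩
          rcases eq_or_ne p (k₂ a) with rfl | h3
          · exact ⟨k₂⁻¹, inv_mem hk₂, by simp [hcv]⟩
          exact ⟨1, one_mem _, (hcfix p h1 h2 h3).symm⟩
        intro p q
        obtain ⟨k, hk, hp⟩ := hcE p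
        obtain ⟨l, hl, hq⟩ := hcE q
        constructor
        · rintro ⟨m, hm, h⟩
          refine ⟨l⁻¹ * m * k, mul_mem (mul_mem (inv_mem hl) hm) hk, ?_⟩
          simp [hp, h, ← hq]
        · rintro ⟨m, hm, h⟩
          refine ⟨l * m * k⁻¹, mul_mem (mul_mem hl hm) (inv_mem hk), ?_⟩
          simp [← hp, h, hq]
    obtain ⟨a, hca, hcza⟩ : ∃ a, c a ≠ a ∧ c (z a) = z a := by
      by_contra hcon
      push Not at hcon
      have hsupp : ∀ y ∈ c.support, z y ∈ c.support := fun y hy =>
        mem_support.mpr (hcon y (mem_support.mp hy))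
      obtain ⟨p, hp⟩ := Finset.card_pos.mp (show 0 < c.support.card by rw [hc3.card_support]; omega)
      have hsub : ({p, z p} : Finset α) ⊆ c.support := by
        simp [Finset.insert_subset_iff, hp, hsupp p hp]
      obtain ⟨q, hq, hq'⟩ := Finset.exists_mem_notMem_of_card_lt_card
        (show ({p, z p} : Finset α).card < c.support.card by
          rw [hc3.card_support, Finset.card_pair (hfpf p).symm]; omega)
      simp only [Finset.mem_insert, Finset.mem_singleton, not_or] at hq'
      have hfour : ({p, z p, q, z q} : Finset α) ⊆ c.support := by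
        simp [Finset.insert_subset_iff, hp, hsupp p hp, hq, hsupp q hq]
      have := Finset.card_le_card hfour
      rw [hc3.card_support, Finset.card_insert_of_notMem, Finset.card_insert_of_notMem,
        Finset.card_pair (hfpf q).symm] at this
      · omega
      · simp only [Finset.mem_insert, Finset.mem_singleton, not_or]
        exact ⟨Ne.symm hq'.2, fun h => hq'.1 (z.injective h).symm⟩
      · simp only [Finset.mem_insert, Finset.mem_singleton, not_or]
        exact ⟨(hfpf p).symm, Ne.symm hq'.1, fun h => hq'.2 (by rw [h, hz.z_z])⟩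
    refine ⟨Subgroup.centralizer ({z} : Set (Perm α)), M₂, hz.le_centralizer, hRM₂, ?_, hM₂, ?_⟩
    · intro hle
      obtain ⟨v, hv⟩ := exists_notMem_list [a, z a] (by simp; omega)
      obtain ⟨w, hw⟩ := exists_notMem_list [a, z a, v] (by simp; omega)
      simp only [List.mem_cons, List.not_mem_nil, or_false, not_or] at hv hw
      obtain ⟨d, -, hdA, hda, -, -, hdfix⟩ :=
        threeCycle_mk (Ne.symm hv.1) (Ne.symm hw.1) (Ne.symm hw.2.2)
      have h : d (z a) = z (d a) :=
        congrArg (fun p : Perm α => p a) (Subgroup.mem_centralizer_singleton_iff.mp (hle hdA))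
      rw [hdfix (z a) (hfpf a) (Ne.symm hv.2) (Ne.symm hw.2.1), hda] at h
      exact hv.1 (z.injective h).symm
    intro J hJ1 hJ2
    have hdd : ∀ x w, swap x (z x) * swap w (z w) ∈ J := fun x w => by
      obtain ⟨h1, h2⟩ := hz.doubleSwap_mem (hfpf x) (hfpf w)
      exact hJ1 ⟨hz.le_centralizer h1, h2⟩
    have hcross : ∀ x y, y ≠ x → y ≠ z x → swap x y * swap (z x) (z y) ∈ J := by
      intro x y h1 h2
      refine hJ1 ⟨Subgroup.mem_centralizer_singleton_iff.mpr ?_, ?_⟩
      · have e : z * (swap x y * swap (z x) (z y)) * z⁻¹ = swap x y * swap (z x) (z y) := by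
          have e1 := conj_swap z x y
          have e2 := conj_swap z (z x) (z y)
          rw [hz.z_z, hz.z_z] at e2
          have hd : Commute (swap (z x) (z y)) (swap x y) := by
            apply Equiv.Perm.Disjoint.commute
            intro v
            by_cases hv : v = x ∨ v = y
            · left
              rcases hv with rfl | rfl
              · exact swap_apply_of_ne_of_ne (hfpf _).symm (fun h => h2 (by rw [h, hz.z_z]))
              · exact swap_apply_of_ne_of_ne h2 (hfpf _).symm
            · push Not at hv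
              exact Or.inr (swap_apply_of_ne_of_ne hv.1 hv.2)
          calc z * (swap x y * swap (z x) (z y)) * z⁻¹
              = (z * swap x y * z⁻¹) * (z * swap (z x) (z y) * z⁻¹) := by group
            _ = swap (z x) (z y) * swap x y := by rw [e1, e2]
            _ = _ := hd.eq
        rw [mul_inv_eq_iff_eq_mul] at e
        exact e.symm
      · show swap x y * swap (z x) (z y) ∈ alternatingGroup α
        rw [mem_alternatingGroup, Equiv.Perm.sign_mul, sign_swap (Ne.symm h1),
          sign_swap (fun h => h1 (z.injective h).symm)]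
        decide
    have hmove : ∀ x y, x ≠ a → x ≠ z a → y ≠ a → y ≠ z a → ∃ g ∈ J, g a = a ∧ g x = y := by
      intro x y h1 h2 h3 h4
      have hza : ∀ {x}, x ≠ z a → a ≠ z x := fun {x} h e => h (by rw [e, hz.z_z])
      rcases eq_or_ne y x with rfl | hyx
      · exact ⟨1, J.one_mem, rfl, rfl⟩
      rcases eq_or_ne y (z x) with rfl | hyz
      · obtain ⟨w, hw⟩ := exists_notMem_list [a, z a, x, z x] (by simp; omega)
        simp only [List.mem_cons, List.not_mem_nil, or_false, not_or] at hw
        refine ⟨_, hdd x w, ?_, ?_⟩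
        · rw [mul_apply, swap_apply_of_ne_of_ne (Ne.symm hw.1) (hza hw.2.1),
            swap_apply_of_ne_of_ne h1.symm (hza h2)]
        · rw [mul_apply, swap_apply_of_ne_of_ne (Ne.symm hw.2.2.1)
            (fun h => hw.2.2.2 (by rw [h, hz.z_z])), swap_apply_left]
      · refine ⟨_, hcross x y hyx hyz, ?_, ?_⟩
        · rw [mul_apply, swap_apply_of_ne_of_ne (hza h2) (hza h4),
            swap_apply_of_ne_of_ne h1.symm h3.symm]
        · rw [mul_apply, swap_apply_of_ne_of_ne (hfpf x).symm (fun h => hyz (by rw [h, hz.z_z])),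
            swap_apply_left]
    refine alt_le J (by omega) a (z a) (fun y => ?_) hmove c (hJ2 ⟨hcM, hcA⟩) hc3
      (Or.inr ⟨hca, hcza⟩)
    rcases eq_or_ne y a with rfl | h1
    · exact ⟨1, J.one_mem, rfl⟩
    rcases eq_or_ne y (z a) with rfl | h2
    · obtain ⟨w, hw⟩ := exists_notMem_list [a, z a] (by simp; omega)
      simp only [List.mem_cons, List.not_mem_nil, or_false, not_or] at hw
      refine ⟨_, hdd a w, ?_⟩
      rw [mul_apply, swap_apply_of_ne_of_ne (Ne.symm hw.1) (fun h => hw.2 (by rw [h, hz.z_z])),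
        swap_apply_left]
    · refine ⟨_, hcross a y h1 h2, ?_⟩
      rw [mul_apply, swap_apply_of_ne_of_ne (hfpf a).symm (fun h => h2 (by rw [h, hz.z_z])),
        swap_apply_left]

end CfsgLib.SylowTwoPerm
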