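import Cfsg.Agent.Lib.Perm.SylowTwo

set_option autoImplicit false
set_option linter.unusedSectionVars false

/-!
# The action of the centraliser of the central involution on its pairs
-/

namespace CfsgLib.SylowTwoPerm

open Equiv Equiv.Perm

universe u

variable {α : Type u} [Fintype α] [DecidableEq α]

/-- The pairs of an involution. -/
abbrev Pairs (z : Perm α) : Type u := {s : Sym2 α // ∃ x, z x ≠ x ∧ s = s(x, z x)}

theorem pairs_eq_iff {z : Perm α} (hzz : ∀ x, z (z x) = x) {x y : α} :
    s(x, z x) = s(y, z y) ↔ x = y ∨ x = z y := by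
  rw [Sym2.eq_iff]
  constructor
  · rintro (⟨h, -⟩ | ⟨h, -⟩)
    exacts [Or.inl h, Or.inr h]
  · rintro (rfl | rfl)
    exacts [Or.inl ⟨rfl, rfl⟩, Or.inr ⟨rfl, hzz y⟩]

theorem map_pair {z g : Perm α} (hg : g * z = z * g) (x : α) :
    Sym2.map g s(x, z x) = s(g x, z (g x)) := by
  rw [Sym2.map_mk]
  have : g (z x) = z (g x) := congrArg (fun p : Perm α => p x) hg
  rw [this]

theorem map_mem_pairs {z g : Perm α} (hg : g * z = z * g) (q : Pairs z) :
    ∃ x, z x ≠ x ∧ Sym2.map g q.1 = s(x, z x) := by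
  obtain ⟨q, x, hx, rfl⟩ := q
  refine ⟨g x, fun h => hx ?_, map_pair hg x⟩
  have h1 : g (z x) = z (g x) := congrArg (fun p : Perm α => p x) hg
  exact g.injective (h1.trans h)

/-- The centraliser of `z`, as permutations of its pairs. -/
noncomputable def toPairs (z : Perm α) :
    (Subgroup.centralizer ({z} : Set (Perm α))) →* Perm (Pairs z) where
  toFun g :=
    { toFun := fun q => ⟨Sym2.map g.1 q.1,
        map_mem_pairs (Subgroup.mem_centralizer_singleton_iff.mp g.2) q⟩
      invFun := fun q => ⟨Sym2.map ((g⁻¹).1 : Perm α) q.1,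
        map_mem_pairs (Subgroup.mem_centralizer_singleton_iff.mp (g⁻¹).2) q⟩
      left_inv := fun q => Subtype.ext (by simp [Sym2.map_map, Function.comp_def, Sym2.map_id'])
      right_inv := fun q => Subtype.ext (by simp [Sym2.map_map, Function.comp_def, Sym2.map_id']) }
  map_one' := Equiv.ext fun q => Subtype.ext (by simp)
  map_mul' g h := Equiv.ext fun q => Subtype.ext (by simp [Sym2.map_map])

variable {R : Sylow 2 (Perm α)}

namespace IsPairing

variable {z : Perm α} (hz : IsPairing R z)
include hz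

theorem le_centralizer :
    (R : Subgroup (Perm α)) ≤ Subgroup.centralizer ({z} : Set (Perm α)) :=
  fun r hr => Subgroup.mem_centralizer_singleton_iff.mpr (hz.comm r hr)

theorem ker_toPairs_le {g : Subgroup.centralizer ({z} : Set (Perm α))} (hg : toPairs z g = 1) :
    g.1 ∈ (R : Subgroup (Perm α)) := by
  have hc := Subgroup.mem_centralizer_singleton_iff.mp g.2
  refine hz.mem_of_pairwise hc fun x => ?_
  by_cases hx : z x = x
  · refine Or.inl (hz.fix _ _ ?_ hx)
    have h1 : g.1 (z x) = z (g.1 x) := congrArg (fun p : Perm α => p x) hc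
    rw [← h1, hx]
  · have h := congrArg (fun p : Perm (Pairs z) => (p ⟨s(x, z x), x, hx, rfl⟩).1) hg
    change Sym2.map g.1 s(x, z x) = s(x, z x) at h
    rw [map_pair hc, pairs_eq_iff hz.z_z] at h
    exact h

theorem toPairs_surjective : Function.Surjective (toPairs z) := by
  classical
  intro σ
  choose rep hrep hrep' using fun q : Pairs z => q.2
  have mk_rep : ∀ q : Pairs z, (⟨s(rep q, z (rep q)), rep q, hrep q, rfl⟩ : Pairs z) = q :=
    fun q => Subtype.ext (hrep' q).symm
  let mk : ∀ x, z x ≠ x → Pairs z := fun x hx => ⟨s(x, z x), x, hx, rfl⟩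
  have hcases : ∀ x (hx : z x ≠ x), x = rep (mk x hx) ∨ x = z (rep (mk x hx)) := fun x hx =>
    (pairs_eq_iff hz.z_z).mp (hrep' (mk x hx))
  let F : Perm (Pairs z) → α → α := fun τ x =>
    if hx : z x ≠ x then
      (if x = rep (mk x hx) then rep (τ (mk x hx)) else z (rep (τ (mk x hx))))
    else x
  have hzne : ∀ x, z x ≠ x → z (z x) ≠ z x := fun x hx h => hx (z.injective h)
  have hmkz : ∀ x (hx : z x ≠ x), mk (z x) (hzne x hx) = mk x hx := fun x hx =>
    Subtype.ext ((pairs_eq_iff hz.z_z).mpr (Or.inr rfl))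
  have hFrep : ∀ τ q, F τ (rep q) = rep (τ q) := by
    intro τ q
    have h1 : mk (rep q) (hrep q) = q := mk_rep q
    simp only [F, dif_pos (hrep q)]
    rw [h1, if_pos rfl]
  have hFz : ∀ τ x, F τ (z x) = z (F τ x) := by
    intro τ x
    by_cases hx : z x = x
    · have hx2 : ¬ z x ≠ x := fun h => h hx
      rw [hx]
      simp only [F, dif_neg hx2, hx]
    · simp only [F, dif_pos (hzne x hx), hmkz x hx]
      rw [dif_pos hx]
      rcases hcases x hx with h | h
      · have : z x ≠ rep (mk x hx) := fun h' => hx (h'.trans h.symm)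
        rw [if_pos h, if_neg this]
      · have h2 : z x = rep (mk x hx) := by
          conv_lhs => rw [h]
          exact hz.z_z _
        have : x ≠ rep (mk x hx) := fun h' => hx (h2.trans h'.symm)
        rw [if_neg this, if_pos h2, hz.z_z]
  have hFfix : ∀ τ x, z x = x → F τ x = x := fun τ x hx => by
    have hx2 : ¬ z x ≠ x := fun h => h hx
    simp only [F, dif_neg hx2]
  have hFinv : ∀ τ x, F τ⁻¹ (F τ x) = x := by
    intro τ x
    by_cases hx : z x = x
    · rw [hFfix τ x hx, hFfix τ⁻¹ x hx]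
    · rcases hcases x hx with h | h
      · rw [h, hFrep, hFrep]; simp
      · rw [h, hFz, hFz, hFrep, hFrep]; simp
  let g : Perm α := ⟨F σ, F σ⁻¹, hFinv σ, fun x => by simpa using hFinv σ⁻¹ x⟩
  have hg : g ∈ Subgroup.centralizer ({z} : Set (Perm α)) :=
    Subgroup.mem_centralizer_singleton_iff.mpr (Equiv.ext fun x => hFz σ x)
  refine ⟨⟨g, hg⟩, Equiv.ext fun q => Subtype.ext ?_⟩
  show Sym2.map g q.1 = (σ q).1
  rw [hrep' q, map_pair (Subgroup.mem_centralizer_singleton_iff.mp hg), hrep' (σ q)]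
  show s(F σ (rep q), z (F σ (rep q))) = _
  rw [hFrep]

/-- The image of `R`, a Sylow 2-subgroup of the symmetric group on the pairs. -/
noncomputable def pairsSylow : Sylow 2 (Perm (Pairs z)) :=
  (R.subtype hz.le_centralizer).mapSurjective hz.toPairs_surjective

theorem mem_pairsSylow {p : Perm (Pairs z)} :
    p ∈ (hz.pairsSylow : Subgroup (Perm (Pairs z))) ↔
      ∃ r : Subgroup.centralizer ({z} : Set (Perm α)),
        r.1 ∈ (R : Subgroup (Perm α)) ∧ toPairs z r = p := by
  simp [pairsSylow, Subgroup.mem_map, Subgroup.mem_subgroupOf]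

theorem card_moved : Nat.card {x // z x ≠ x} = 2 * Nat.card (Pairs z) := by
  classical
  choose rep hrep hrep' using fun q : Pairs z => q.2
  let F : Pairs z × Bool → {x // z x ≠ x} := fun qb =>
    if qb.2 then ⟨rep qb.1, hrep qb.1⟩
    else ⟨z (rep qb.1), fun h => hrep qb.1 (z.injective h)⟩
  have hF : Function.Bijective F := by
    constructor
    · rintro ⟨q, b⟩ ⟨q', b'⟩ h
      have hq : ∀ q q' : Pairs z, (rep q = rep q' ∨ rep q = z (rep q')) → q = q' :=
        fun q q' h => Subtype.ext (by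
          rw [hrep' q, hrep' q']
          exact (pairs_eq_iff hz.z_z).mpr h)
      rcases b <;> rcases b' <;> simp [F, Subtype.ext_iff] at h
      · rw [hq q q' (Or.inl h)]
      · exfalso
        have hq2 := hq q q' (Or.inr (by rw [← h, hz.z_z]))
        subst hq2
        exact hrep q h
      · exfalso
        have hq2 := hq q q' (Or.inr h)
        subst hq2
        exact hrep q h.symm
      · rw [hq q q' (Or.inl h)]
    · rintro ⟨x, hx⟩
      rcases (pairs_eq_iff hz.z_z).mp (hrep' ⟨s(x, z x), x, hx, rfl⟩) with h | h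
      · exact ⟨(⟨s(x, z x), x, hx, rfl⟩, true), by simp [F, ← h]⟩
      · exact ⟨(⟨s(x, z x), x, hx, rfl⟩, false), by simp [F, ← h]⟩
  rw [← Nat.card_congr (Equiv.ofBijective F hF), Nat.card_prod,
    Nat.card_eq_fintype_card (α := Bool), Fintype.card_bool, mul_comm]

theorem card_eq : ∃ e ≤ 1, Fintype.card α = 2 * Nat.card (Pairs z) + e := by
  classical
  refine ⟨(Finset.univ.filter fun x => z x = x).card, Finset.card_le_one.mpr fun a ha b hb =>
    hz.fix a b (by simpa using ha) (by simpa using hb), ?_⟩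
  rw [← hz.card_moved, Nat.card_eq_fintype_card, Fintype.card_subtype, add_comm]
  exact (Finset.card_filter_add_card_filter_not (s := Finset.univ) (fun x => z x = x)).symm

end IsPairing

/-- An element of odd order normalising a Sylow 2-subgroup of a symmetric group is trivial. -/
theorem eq_one_of_odd_of_normalizes :
    ∀ (n : ℕ) (α : Type u) [Fintype α] [DecidableEq α], Fintype.card α = n →
      ∀ (R : Sylow 2 (Perm α)) (g : Perm α), Odd (orderOf g) →
        (∀ r ∈ (R : Subgroup (Perm α)), g⁻¹ * r * g ∈ (R : Subgroup (Perm α))) → g = 1 := by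
  intro n
  induction n using Nat.strong_induction_on with
  | _ n ih =>
  intro α _ _ hn R g hodd hg
  rcases Nat.lt_or_ge n 2 with hsmall | hbig
  · have : Subsingleton α := Fintype.card_le_one_iff_subsingleton.mp (by omega)
    exact Subsingleton.elim _ _
  obtain ⟨z, hz⟩ := exists_pairing R
  have hgz := hz.commute_of_normalizes hg
  let gc : Subgroup.centralizer ({z} : Set (Perm α)) :=
    ⟨g, Subgroup.mem_centralizer_singleton_iff.mpr hgz⟩
  have horder : orderOf gc = orderOf g := Subgroup.orderOf_mk g _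
  have h1 : toPairs z gc = 1 := by
    classical
    obtain ⟨e, he, hcard⟩ := hz.card_eq
    refine ih (Fintype.card (Pairs z)) (by rw [← Nat.card_eq_fintype_card]; omega) (Pairs z) rfl
      hz.pairsSylow _ ?_ ?_
    · exact Odd.of_dvd_nat hodd (horder ▸ orderOf_map_dvd (toPairs z) gc)
    · intro p hp
      obtain ⟨r, hr, rfl⟩ := hz.mem_pairsSylow.mp hp
      exact hz.mem_pairsSylow.mpr ⟨gc⁻¹ * r * gc, hg _ hr, by simp⟩
  have hgR : g ∈ (R : Subgroup (Perm α)) := hz.ker_toPairs_le (g := gc) h1
  obtain ⟨k, hk⟩ := R.isPGroup' ⟨g, hgR⟩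
  have hk' : g ^ 2 ^ k = 1 := congrArg Subtype.val hk
  obtain ⟨i, -, hi⟩ := (Nat.dvd_prime_pow Nat.prime_two).mp (orderOf_dvd_of_pow_eq_one hk')
  rcases i with _ | i
  · exact orderOf_eq_one_iff.mp (by simpa using hi)
  · rw [hi, pow_succ', Nat.odd_mul] at hodd
    exact absurd hodd.1 (by decide)

namespace IsPairing

variable {z : Perm α} (hz : IsPairing R z)
include hz

theorem exists_move (h : 4 ≤ Fintype.card α) :
    ∃ r ∈ (R : Subgroup (Perm α)), ∃ x, z x ≠ x ∧ r x ≠ x ∧ r x ≠ z x := by
  classical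
  obtain ⟨e, he, hcard⟩ := hz.card_eq
  have hne : (hz.pairsSylow : Subgroup (Perm (Pairs z))) ≠ ⊥ := by
    apply hz.pairsSylow.ne_bot_of_dvd_card
    rw [Nat.card_perm]
    exact Nat.dvd_factorial (by omega) (by omega)
  obtain ⟨p, hp, hp1⟩ := (Subgroup.bot_or_exists_ne_one _).resolve_left hne
  obtain ⟨r, hr, rfl⟩ := hz.mem_pairsSylow.mp hp
  refine ⟨r.1, hr, ?_⟩
  by_contra hcon
  push Not at hcon
  apply hp1
  refine Equiv.ext fun q => Subtype.ext ?_
  obtain ⟨q, x, hx, rfl⟩ := q
  show Sym2.map r.1 s(x, z x) = s(x, z x)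
  rw [map_pair (Subgroup.mem_centralizer_singleton_iff.mp r.2), pairs_eq_iff hz.z_z]
  by_cases h1 : r.1 x = x
  · exact Or.inl h1
  · exact Or.inr (hcon x hx h1)

end IsPairing

/-- If the number of moved points is a power of two, `R` is transitive on them. -/
theorem transitive_of_two_pow :
    ∀ (k : ℕ) (α : Type u) [Fintype α] [DecidableEq α],
      (Fintype.card α = 2 ^ k ∨ (k ≠ 0 ∧ Fintype.card α = 2 ^ k + 1)) →
      ∀ (R : Sylow 2 (Perm α)) (z : Perm α), IsPairing R z →
        ∀ x y, z x ≠ x → z y ≠ y → ∃ r ∈ (R : Subgroup (Perm α)), r x = y := by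
  intro k
  induction k with
  | zero =>
    intro α _ _ hn R z hz x y hx
    have : Subsingleton α := Fintype.card_le_one_iff_subsingleton.mp (by
      rcases hn with hn | ⟨h, -⟩
      · simp [hn]
      · exact absurd rfl h)
    exact absurd (Subsingleton.elim _ _) hx
  | succ k ih =>
    intro α _ _ hn R z hz x y hx hy
    classical
    obtain ⟨e, he, hcard⟩ := hz.card_eq
    have hQ : Fintype.card (Pairs z) = 2 ^ k := by
      rw [← Nat.card_eq_fintype_card]
      rw [pow_succ] at hn
      omega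
    obtain ⟨z', hz'⟩ := exists_pairing hz.pairsSylow
    have hmove : ∀ q : Pairs z, Fintype.card (Pairs z) ≠ 1 → z' q ≠ q := by
      intro q h1 hq
      obtain ⟨e', he', hcard'⟩ := hz'.card_eq
      have he0 : e' = 0 := by
        rcases k with _ | k
        · exact absurd hQ h1
        · rw [hQ, pow_succ] at hcard'; omega
      have h2 := hz'.card_moved
      rw [Nat.card_eq_fintype_card (α := {q : Pairs z // z' q ≠ q})] at h2
      have h3 := Fintype.card_subtype_lt (p := fun q : Pairs z => z' q ≠ q) (x := q) (by simp [hq])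
      omega
    obtain ⟨p, hp, hpxy⟩ : ∃ p ∈ (hz.pairsSylow : Subgroup (Perm (Pairs z))),
        p ⟨s(x, z x), x, hx, rfl⟩ = ⟨s(y, z y), y, hy, rfl⟩ := by
      by_cases h1 : Fintype.card (Pairs z) = 1
      · have : Subsingleton (Pairs z) := Fintype.card_le_one_iff_subsingleton.mp h1.le
        exact ⟨1, one_mem _, Subsingleton.elim _ _⟩
      · exact ih (Pairs z) (Or.inl hQ) hz.pairsSylow z' hz' _ _ (hmove _ h1) (hmove _ h1)
    obtain ⟨r, hr, rfl⟩ := hz.mem_pairsSylow.mp hp
    have h := congrArg Subtype.val hpxy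
    change Sym2.map r.1 s(x, z x) = s(y, z y) at h
    rw [map_pair (Subgroup.mem_centralizer_singleton_iff.mp r.2), pairs_eq_iff hz.z_z] at h
    rcases h with h | h
    · exact ⟨r.1, hr, h⟩
    · exact ⟨z * r.1, mul_mem hz.mem hr, by simp [h, hz.z_z]⟩

end CfsgLib.SylowTwoPerm
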